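import Cfsg.Agent.Lib.KnownA.MinIndex.Orbits

/-!
# No action of `SL n` in which a translation group is regular and transvections are derangements
-/

set_option autoImplicit false
set_option linter.unusedSectionVars false
set_option backward.isDefEq.respectTransparency false

open Matrix Finset

namespace CfsgLib.KnownA.MinIndex

variable {F : Type*} [Field F] [Fintype F] {ι : Type*} [Fintype ι] [DecidableEq ι]
variable {Ω : Type*} [Fintype Ω] [DecidableEq Ω]
variable (π : SpecialLinearGroup ι F →* Equiv.Perm Ω) (a : ι)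

theorem single_ext (i : Rest a) (c : F) : ext a (Pi.single i c) = Pi.single i.1 c := by
  funext x
  by_cases h : x = a
  · subst h; simp [ext, Ne.symm i.2]
  · simp [ext, h, Pi.single_apply, Subtype.ext_iff]

variable (hfpf : ∀ v φ : ι → F, φ ⬝ᵥ v = 0 → v ≠ 0 → φ ≠ 0 → ∀ ω, π (T v φ) ω ≠ ω)
variable (htrans : ∀ ω ν : Ω, ∃ x, π (U a x) ω = ν)

include hfpf

theorem free {x : Rest a → F} {ω : Ω} (h : π (U a x) ω = ω) : x = 0 := by
  by_contra hx
  exact hfpf (ext a x) (Pi.single a 1) (single_dot_ext a 1 x)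
    (fun e => hx (ext_injective a (e.trans (ext_zero a).symm))) (by simp) ω h

theorem unique_shift {x y : Rest a → F} {g : SpecialLinearGroup ι F} {ω : Ω}
    (hx : π (U a x * g) ω = ω) (hy : π (U a y * g) ω = ω) : x = y := by
  rw [map_mul, Equiv.Perm.mul_apply] at hx hy
  have : π (U a (x - y)) (π (U a y) (π g ω)) = π (U a y) (π g ω) := by
    rw [← pi_U_add, sub_add_cancel, hx, hy]
  exact sub_eq_zero.1 (free π a hfpf this)

include htrans

theorem exists_shift (g : SpecialLinearGroup ι F) (ω : Ω) : ∃ x, π (U a x * g) ω = ω := by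
  obtain ⟨x, hx⟩ := htrans (π g ω) ω
  exact ⟨x, by rw [map_mul, Equiv.Perm.mul_apply, hx]⟩

/-- The torus element used when some scalar has non-trivial `n`-th power. -/
theorem torus_false (hι : 3 ≤ Fintype.card ι) (ω₀ : Ω) {μ : F} (hμ0 : μ ≠ 0)
    (hμ : μ ^ Fintype.card ι ≠ 1) : False := by
  set n := Fintype.card ι with hn
  let d : ι → F := fun i => if i = a then (μ ^ (n - 1))⁻¹ else μ
  have hdet : (Matrix.diagonal d).det = 1 := by
    rw [Matrix.det_diagonal, ← Finset.mul_prod_erase _ _ (Finset.mem_univ a),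
      Finset.prod_congr rfl (g := fun _ => μ) (fun i hi => if_neg (Finset.ne_of_mem_erase hi)),
      Finset.prod_const, Finset.card_erase_of_mem (Finset.mem_univ a), Finset.card_univ, ← hn]
    simp only [d, if_true]
    exact inv_mul_cancel₀ (pow_ne_zero _ hμ0)
  let D : SpecialLinearGroup ι F := ⟨Matrix.diagonal d, hdet⟩
  have hDmul : ∀ z, (D : Matrix ι ι F) *ᵥ z = fun i => d i * z i := fun z =>
    funext fun i => Matrix.mulVec_diagonal d z i
  have hDinv : Pi.single a 1 ᵥ* ((D⁻¹ : SpecialLinearGroup ι F) : Matrix ι ι F) =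
      μ ^ (n - 1) • (Pi.single a 1 : ι → F) := by
    have e : (μ ^ (n - 1) • (Pi.single a 1 : ι → F)) ᵥ* (D : Matrix ι ι F) = Pi.single a 1 := by
      funext i
      change ((μ ^ (n - 1) • (Pi.single a 1 : ι → F)) ᵥ* Matrix.diagonal d) i = _
      rw [Matrix.vecMul_diagonal]
      by_cases h : i = a
      · subst h; simp [d, hμ0]
      · simp [h]
    conv_lhs => rw [← e]
    rw [Matrix.vecMul_vecMul, show (D : Matrix ι ι F) *
      ((D⁻¹ : SpecialLinearGroup ι F) : Matrix ι ι F) = 1 from congrArg Subtype.val (mul_inv_cancel D),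
      Matrix.vecMul_one]
  have hc : ∀ x : Rest a → F, D * U a x * D⁻¹ = U a (μ ^ n • x) := by
    intro x
    have e : (D : Matrix ι ι F) *ᵥ ext a x = μ • ext a x := by
      rw [hDmul]
      funext i
      by_cases h : i = a
      · subst h; simp [ext_self]
      · simp [d, h]
    rw [U, T_conj _ (single_dot_ext a 1 x), hDinv, e,
      ← T_smul (by rw [dotProduct_smul, single_dot_ext, smul_zero]), smul_smul, ← ext_smul,
      show μ ^ (n - 1) * μ = μ ^ n by rw [← pow_succ]; congr 1; omega]
    rfl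
  have hmove : ∀ x ω, π D (π (U a x) ω) = π (U a (μ ^ n • x)) (π D ω) := by
    intro x ω
    rw [← hc, map_mul, map_mul, map_inv, Equiv.Perm.mul_apply, Equiv.Perm.mul_apply,
      Equiv.Perm.inv_def, Equiv.symm_apply_apply]
  obtain ⟨x₀, hx₀⟩ := htrans ω₀ (π D ω₀)
  obtain ⟨ω₁, hω₁⟩ : ∃ ω₁, π D ω₁ = ω₁ := by
    refine ⟨π (U a ((1 - μ ^ n)⁻¹ • x₀)) ω₀, ?_⟩
    rw [hmove, ← hx₀, ← pi_U_add]
    congr 3
    have h1 : (1 : F) - μ ^ n ≠ 0 := sub_ne_zero.2 (Ne.symm hμ)
    funext i
    simp only [Pi.add_apply, Pi.smul_apply, smul_eq_mul]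
    field_simp
    ring
  obtain ⟨k, l, hkl⟩ := Fintype.exists_pair_of_one_lt_card
    (by rw [Fintype.card_subtype_compl, Fintype.card_subtype_eq]; omega :
      1 < Fintype.card (Rest a))
  have hkl' : k.1 ≠ l.1 := fun e => hkl (Subtype.ext e)
  set t := T (Pi.single k.1 (1 : F)) (Pi.single l.1 1) with ht
  have hcomm : D * t = t * D := by
    apply CfsgLib.Classical.sl_ext
    change Matrix.diagonal d * (t : Matrix ι ι F) = (t : Matrix ι ι F) * Matrix.diagonal d
    rw [ht, T_coe (single_dot_single hkl'.symm _ _), mul_add, add_mul, one_mul, mul_one]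
    congr 1
    ext i j
    simp only [Matrix.diagonal_mul, Matrix.mul_diagonal, vecMulVec_apply, Pi.single_apply]
    by_cases hi : i = k.1 <;> by_cases hj : j = l.1 <;> simp [hi, hj, d, k.2, l.2]
  obtain ⟨x, hx⟩ := htrans ω₁ (π t ω₁)
  have hfix : π D (π t ω₁) = π t ω₁ := by
    rw [← Equiv.Perm.mul_apply, ← map_mul, hcomm, map_mul, Equiv.Perm.mul_apply, hω₁]
  have hx0 : x = 0 := by
    rw [← hx, hmove, hω₁] at hfix
    have e : π (U a (μ ^ n • x - x)) (π (U a x) ω₁) = π (U a x) ω₁ := by
      rw [← pi_U_add, sub_add_cancel, hfix]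
    have e2 := free π a hfpf e
    rw [sub_eq_zero] at e2
    by_contra hne
    obtain ⟨i, hi⟩ := Function.ne_iff.1 hne
    have h3 := congrFun e2 i
    rw [Pi.smul_apply, smul_eq_mul] at h3
    exact hμ (mul_right_cancel₀ hi (h3.trans (one_mul _).symm))
  rw [hx0, pi_U_zero] at hx
  exact hfpf _ _ (single_dot_single hkl'.symm _ _) (by simp) (by simp) ω₁ hx.symm

/-- The cocycle argument. -/
theorem cocycle_false (hι : 3 ≤ Fintype.card ι) (ω : Ω)
    (hex : 5 ≤ Fintype.card ι ∨ (Fintype.card ι = 4 ∧ (2 : F) ≠ 0) ∨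
      (Fintype.card ι = 3 ∧ (2 : F) = 0)) : False := by
  have hcardR : Fintype.card (Rest a) = Fintype.card ι - 1 := by
    rw [Fintype.card_subtype_compl, Fintype.card_subtype_eq]
  obtain ⟨b⟩ : Nonempty (Rest a) := Fintype.card_pos_iff.1 (by omega)
  let eb : Rest a → F := Pi.single b 1
  let t : (Rest a → F) → SpecialLinearGroup ι F := fun ψ => Lev a eb ψ
  choose c hc using fun ψ => exists_shift π a hfpf htrans (t ψ) ω
  have hdot : ∀ {ψ : Rest a → F}, ψ b = 0 → ψ ⬝ᵥ eb = 0 := fun h => by simp [eb, h]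
  have hadd : ∀ ψ ψ' : Rest a → F, ψ b = 0 → ψ' b = 0 →
      c (ψ + ψ') = c ψ + c ψ' + (ψ ⬝ᵥ c ψ') • eb := by
    intro ψ ψ' h h'
    refine (unique_shift π a hfpf ?_ (hc (ψ + ψ'))).symm
    have e : U a (c ψ + c ψ' + (ψ ⬝ᵥ c ψ') • eb) * t (ψ + ψ') =
        (U a (c ψ) * t ψ) * (U a (c ψ') * t ψ') := by
      rw [show c ψ + c ψ' + (ψ ⬝ᵥ c ψ') • eb = c ψ + (c ψ' + (ψ ⬝ᵥ c ψ') • eb) by abel,
        U_add a (c ψ), ← Lev_conj_U a (hdot h),
        show t (ψ + ψ') = t ψ * t ψ' by
          simp only [t, Lev]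
          rw [ext_add, T_mul_right (by rw [ext_dot, hdot h]) (by rw [ext_dot, hdot h'])]]
      simp only [t]
      group
    rw [e, map_mul, Equiv.Perm.mul_apply, hc, hc]
  have hsymm : ∀ ψ ψ' : Rest a → F, ψ b = 0 → ψ' b = 0 → ψ ⬝ᵥ c ψ' = ψ' ⬝ᵥ c ψ := by
    intro ψ ψ' h h'
    have e := hadd ψ ψ' h h'
    rw [add_comm ψ ψ', hadd ψ' ψ h' h, add_comm (c ψ') (c ψ), add_right_inj] at e
    have := congrFun e b
    simpa [eb] using this.symm
  -- the behaviour under the transvection `(p, r)`
  have hinv : ∀ p r : Rest a, p ≠ b → r ≠ b → p ≠ r → ∀ ψ : Rest a → F, ψ b = 0 →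
      ∀ k : Rest a, k ≠ b →
        c (ψ - ψ p • Pi.single r 1) k = c ψ k + if k = p then c ψ r else 0 := by
    intro p r hp hr hpr ψ hψ k hk
    set w : Rest a → F := Pi.single p 1 with hw
    set η : Rest a → F := Pi.single r 1 with hη
    have hηw : η ⬝ᵥ w = 0 := single_dot_single hpr.symm _ _
    set g := Lev a w η with hg
    obtain ⟨z, hz⟩ := exists_shift π a hfpf htrans g ω
    set ψ' := ψ - ψ p • η with hψ'
    have hψ'b : ψ' b = 0 := by simp [hψ', hη, hψ, Ne.symm hr]
    have hgt : g * t ψ * g⁻¹ = t ψ' := by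
      have h' : ext a η ⬝ᵥ ext a w = 0 := by rw [ext_dot, hηw]
      simp only [t, Lev, hg]
      rw [T_conj _ (by rw [ext_dot, hdot hψ]), T_inv h', T_mulVec h',
        vecMul_T (by rw [dotProduct_neg, h', neg_zero]), dotProduct_neg, ext_dot, ext_dot]
      rw [show η ⬝ᵥ eb = 0 from hdot (by simp [hη, Ne.symm hr]), zero_smul, add_zero,
        show ψ ⬝ᵥ w = ψ p by simp [hw], hψ', neg_smul, sub_eq_add_neg, ← neg_smul, ← neg_smul,
        ext_add, ext_smul]
    have e : (U a z * g) * (U a (c ψ) * t ψ) * (U a z * g)⁻¹ =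
        U a ((c ψ + (η ⬝ᵥ c ψ) • w) + (-(ψ' ⬝ᵥ z)) • eb) * t ψ' := by
      have e1 : t ψ' * U a (-z) = U a (-z + (ψ' ⬝ᵥ (-z)) • eb) * t ψ' := by
        rw [← Lev_conj_U a (hdot hψ'b)]
        simp only [t]
        group
      have e2 : (U a z)⁻¹ = U a (-z) :=
        inv_eq_of_mul_eq_one_right (by rw [← U_add, add_neg_cancel, U_zero])
      calc (U a z * g) * (U a (c ψ) * t ψ) * (U a z * g)⁻¹
          = U a z * (g * U a (c ψ) * g⁻¹) * (g * t ψ * g⁻¹) * (U a z)⁻¹ := by group
        _ = U a z * U a (c ψ + (η ⬝ᵥ c ψ) • w) * (t ψ' * U a (-z)) := by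
            rw [hgt, hg, Lev_conj_U a hηw, e2, mul_assoc _ (t ψ')]
        _ = _ := by
            rw [e1, ← mul_assoc, ← U_add, ← U_add, dotProduct_neg]
            congr 2
            abel
    have hfix : π (U a ((c ψ + (η ⬝ᵥ c ψ) • w) + (-(ψ' ⬝ᵥ z)) • eb) * t ψ') ω = ω := by
      rw [← e, map_mul, map_mul, map_inv, Equiv.Perm.mul_apply, Equiv.Perm.mul_apply]
      have : (π (U a z * g))⁻¹ ω = ω := by
        rw [Equiv.Perm.inv_eq_iff_eq]; exact hz.symm
      rw [this, hc, hz]
    rw [← unique_shift π a hfpf hfix (hc ψ')]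
    simp only [Pi.add_apply, Pi.smul_apply, smul_eq_mul, eb, hw, hη, Pi.single_apply]
    rw [if_neg hk]
    by_cases hkp : k = p <;> simp [hkp]
  obtain ⟨l, hl⟩ : ∃ l : Rest a, l ≠ b := Fintype.exists_ne_of_one_lt_card (by omega) b
  set el : Rest a → F := Pi.single l 1 with hel
  have helb : el b = 0 := by simp [hel, Ne.symm hl]
  have hzero : ∀ r : Rest a, r ≠ b → c el r = 0 := by
    intro r hr
    by_cases hp : ∃ p : Rest a, p ≠ b ∧ p ≠ r ∧ p ≠ l
    · obtain ⟨p, hpb, hpr, hpl⟩ := hp
      have := hinv p r hpb hr hpr el helb p hpb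
      rw [show el p = 0 by simp [hel, hpl], zero_smul, sub_zero, if_pos rfl] at this
      exact left_eq_add.1 this
    push Not at hp
    have hle : Fintype.card (Rest a) ≤ 3 := by
      rw [← Finset.card_univ]
      refine (Finset.card_le_card (s := Finset.univ) (t := {b, r, l}) fun p _ => ?_).trans
        Finset.card_le_three
      simp only [Finset.mem_insert, Finset.mem_singleton]
      by_cases h1 : p = b
      · exact Or.inl h1
      by_cases h2 : p = r
      · exact Or.inr (Or.inl h2)
      exact Or.inr (Or.inr (hp p h1 h2))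
    rcases hex with h5 | ⟨h4, h2⟩ | ⟨h3, h2⟩
    · omega
    · have hrl : r ≠ l := by
        intro e
        subst e
        have : Fintype.card (Rest a) ≤ 2 := by
          rw [← Finset.card_univ]
          refine (Finset.card_le_card (s := Finset.univ) (t := {b, r}) fun p _ => ?_).trans
            Finset.card_le_two
          simp only [Finset.mem_insert, Finset.mem_singleton]
          by_cases h1 : p = b
          · exact Or.inl h1
          exact Or.inr (by by_contra h; exact h (hp p h1 h))
        omega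
      set er : Rest a → F := Pi.single r 1 with her
      have herb : er b = 0 := by simp [her, Ne.symm hr]
      have hll : c el l = 0 := by
        have := hinv r l hr hl hrl el helb r hr
        rw [show el r = 0 by simp [hel, hrl], zero_smul, sub_zero, if_pos rfl] at this
        exact left_eq_add.1 this
      have e := hinv l r hl hr hrl.symm el helb l hl
      rw [show el l = 1 by simp [hel], one_smul, if_pos rfl, hll, zero_add] at e
      have e2 := hadd (el - er) er (by simp [helb, herb]) herb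
      rw [sub_add_cancel] at e2
      have e3 := congrFun e2 l
      simp only [Pi.add_apply, Pi.smul_apply, smul_eq_mul, eb, Pi.single_eq_of_ne hl, mul_zero,
        add_zero, ← her, hll] at e3
      rw [show el - er = el - Pi.single r 1 from rfl, e] at e3
      have e4 : c er l = c el r := by
        have := hsymm el er helb herb
        simpa [hel, her] using this
      rw [e4, ← two_mul] at e3
      exact (mul_eq_zero.1 e3.symm).resolve_left h2
    · have hrl : r = l := by
        by_contra hne
        have : ({b, r, l} : Finset (Rest a)).card = 3 :=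
          Finset.card_eq_three.2 ⟨b, r, l, Ne.symm hr, Ne.symm hl, hne, rfl⟩
        have := Finset.card_le_univ ({b, r, l} : Finset (Rest a))
        omega
      subst hrl
      have e := hadd el el helb helb
      have c0 : c 0 = 0 := by
        refine unique_shift π a hfpf (hc 0) ?_
        simp [t, Lev, ext_zero, U_zero]
      have h20 : el + el = 0 := by
        funext i; simp only [Pi.add_apply, Pi.zero_apply]; rw [← two_mul, h2, zero_mul]
      rw [h20, c0] at e
      have := congrFun e b
      simp only [Pi.zero_apply, Pi.add_apply, Pi.smul_apply, smul_eq_mul, eb, Pi.single_eq_same,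
        mul_one, ← two_mul, h2, zero_mul, zero_add] at this
      simpa [hel, h2] using this.symm
  have hcel : c el = c el b • eb := by
    funext i
    by_cases h : i = b
    · subst h; simp [eb]
    · simp [eb, h, hzero i h]
  have e : U a (c el) * t el = T (ext a eb) (c el b • Pi.single a 1 + ext a el) := by
    rw [hcel]
    simp only [U, t, Lev]
    rw [ext_smul, T_smul (single_dot_ext a 1 eb),
      T_mul_right (by rw [smul_dotProduct, single_dot_ext, smul_zero]) (by rw [ext_dot, hdot helb]),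
      show (c el b • eb) b = c el b by simp [eb]]
  refine hfpf (ext a eb) _ ?_ ?_ ?_ ω (e ▸ hc el)
  · rw [add_dotProduct, smul_dotProduct, single_dot_ext, ext_dot, hdot helb, smul_zero, add_zero]
  · intro h
    have := congrFun h b.1
    rw [ext_coe] at this
    simp [eb] at this
  · intro h
    have := congrFun h l.1
    rw [Pi.add_apply, ext_coe] at this
    simp [hel, l.2] at this

end CfsgLib.KnownA.MinIndex
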