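import Cfsg.Agent.Lib.KnownA.MinIndex.Trichotomy
import Cfsg.Agent.Lib.KnownA.MinIndex.Regular

/-!
# Transitive actions of `SL n` on fewer points than the projective space are trivial
-/

set_option autoImplicit false
set_option linter.unusedSectionVars false
set_option backward.isDefEq.respectTransparency false

open Matrix Finset

namespace CfsgLib.KnownA.MinIndex

variable {F : Type*} [Field F] [Fintype F] {ι : Type*} [Fintype ι] [DecidableEq ι]
variable {Ω : Type*} [Fintype Ω] [DecidableEq Ω]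

/-- Each fixed-point set of a translation group is all or nothing. -/
def AllOrNone (π : SpecialLinearGroup ι F →* Equiv.Perm Ω) : Prop :=
  ∀ v φ : ι → F, φ ⬝ᵥ v = 0 → v ≠ 0 → φ ≠ 0 → ∀ ω, π (T v φ) ω = ω →
    ∀ v', φ ⬝ᵥ v' = 0 → π (T v' φ) ω = ω

/-- Transpose inverse. -/
def trInv : SpecialLinearGroup ι F →* SpecialLinearGroup ι F where
  toFun g := SpecialLinearGroup.transpose g⁻¹
  map_one' := by
    apply CfsgLib.Classical.sl_ext
    change (((1 : SpecialLinearGroup ι F)⁻¹ : SpecialLinearGroup ι F) : Matrix ι ι F)ᵀ = 1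
    rw [inv_one]
    exact Matrix.transpose_one
  map_mul' g h := by
    apply CfsgLib.Classical.sl_ext
    change (((g * h)⁻¹ : SpecialLinearGroup ι F) : Matrix ι ι F)ᵀ =
      ((g⁻¹ : SpecialLinearGroup ι F) : Matrix ι ι F)ᵀ * ((h⁻¹ : SpecialLinearGroup ι F) : Matrix ι ι F)ᵀ
    rw [_root_.mul_inv_rev, ← Matrix.transpose_mul]
    rfl

theorem trInv_apply (g : SpecialLinearGroup ι F) :
    trInv g = SpecialLinearGroup.transpose g⁻¹ := rfl

theorem trInv_surjective : Function.Surjective (trInv (F := F) (ι := ι)) := fun g =>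
  ⟨(SpecialLinearGroup.transpose g)⁻¹, by
    apply CfsgLib.Classical.sl_ext
    rw [trInv_apply, inv_inv]
    change ((g : Matrix ι ι F)ᵀ)ᵀ = _
    rw [Matrix.transpose_transpose]⟩

theorem trInv_T {v φ : ι → F} (h : φ ⬝ᵥ v = 0) : trInv (T v φ) = T φ (-v) := by
  apply CfsgLib.Classical.sl_ext
  rw [trInv_apply, T_inv h]
  change ((T (-v) φ : SpecialLinearGroup ι F) : Matrix ι ι F)ᵀ =
    ((T φ (-v) : SpecialLinearGroup ι F) : Matrix ι ι F)
  rw [T_coe (by rw [dotProduct_neg, h, neg_zero]),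
    T_coe (by rw [neg_dotProduct, dotProduct_comm, h, neg_zero]), Matrix.transpose_add,
    Matrix.transpose_one, Matrix.transpose_vecMulVec]

variable (π : SpecialLinearGroup ι F →* Equiv.Perm Ω)

/-- Every translation group is conjugate to the standard one. -/
theorem exists_conj (hι : 3 ≤ Fintype.card ι) (a : ι) {φ : ι → F} (hφ : φ ≠ 0) :
    ∃ g : SpecialLinearGroup ι F, φ = Pi.single a 1 ᵥ* (g : Matrix ι ι F) :=
  forall_of_T_move (P := fun y => ∃ g : SpecialLinearGroup ι F,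
      y = Pi.single a 1 ᵥ* (g : Matrix ι ι F)) (by omega)
    (fun y w ψ h hy => by
      obtain ⟨g, hg⟩ := hy
      refine ⟨g * T w ψ, ?_⟩
      change _ = Pi.single a 1 ᵥ* ((g : Matrix ι ι F) * (T w ψ : Matrix ι ι F))
      rw [← Matrix.vecMul_vecMul, ← hg, vecMul_T h])
    (y := Pi.single a 1) (by simp) ⟨1, (Matrix.vecMul_one _).symm⟩ hφ

/-- The point and coordinates to which a translation group is carried. -/
theorem transfer (hι : 3 ≤ Fintype.card ι) (a : ι) {φ : ι → F} (hφ : φ ≠ 0) :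
    ∃ g : SpecialLinearGroup ι F, φ = Pi.single a 1 ᵥ* (g : Matrix ι ι F) ∧
      ∀ v, φ ⬝ᵥ v = 0 → ∃ x : Rest a → F, ext a x = (g : Matrix ι ι F) *ᵥ v ∧
        ∀ ω, π (T v φ) ω = ω ↔ π (U a x) (π g ω) = π g ω := by
  obtain ⟨g, hg⟩ := exists_conj hι a hφ
  refine ⟨g, hg, fun v hv => ?_⟩
  have h0 : ((g : Matrix ι ι F) *ᵥ v) a = 0 := by
    have : Pi.single a 1 ⬝ᵥ ((g : Matrix ι ι F) *ᵥ v) = 0 := by
      rw [Matrix.dotProduct_mulVec, ← hg, hv]
    simpa using this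
  refine ⟨fun i => ((g : Matrix ι ι F) *ᵥ v) i, ?_, fun ω => ?_⟩
  · funext i
    by_cases h : i = a
    · subst h; simp [ext, h0]
    · simp [ext, h]
  have hU : U a (fun i => ((g : Matrix ι ι F) *ᵥ v) i) = g * T v φ * g⁻¹ := by
    rw [T_conj g hv, U]
    congr 1
    · funext i
      by_cases h : i = a
      · subst h; simp [ext, h0]
      · simp [ext, h]
    · rw [hg, Matrix.vecMul_vecMul, show (g : Matrix ι ι F) *
        ((g⁻¹ : SpecialLinearGroup ι F) : Matrix ι ι F) = 1 from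
        congrArg Subtype.val (mul_inv_cancel g), Matrix.vecMul_one]
  rw [hU, map_mul, map_mul, map_inv, Equiv.Perm.mul_apply, Equiv.Perm.mul_apply,
    Equiv.Perm.inv_def, Equiv.symm_apply_apply]
  exact (π g).injective.eq_iff.symm

theorem T_eq_one_or (v φ : ι → F) : T v φ = 1 ∨ (φ ⬝ᵥ v = 0 ∧ v ≠ 0 ∧ φ ≠ 0) := by
  by_cases h : φ ⬝ᵥ v = 0
  · by_cases hv : v = 0
    · left; rw [hv, T_zero_left]
    by_cases hφ : φ = 0
    · left; rw [hφ, T_zero_right]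
    exact Or.inr ⟨h, hv, hφ⟩
  · left; rw [T, dif_neg h]

theorem fixed_all {ω : Ω}
    (h : ∀ v φ : ι → F, φ ⬝ᵥ v = 0 → v ≠ 0 → φ ≠ 0 → π (T v φ) ω = ω)
    (g : SpecialLinearGroup ι F) : π g ω = ω := by
  induction g using CfsgLib.Classical.sl_transvection_induction with
  | h1 => rw [map_one, Equiv.Perm.one_apply]
  | htransvec i j hij c =>
    rw [transvection_eq_T hij c]
    rcases T_eq_one_or (Pi.single i c) (Pi.single j (1 : F)) with e | ⟨e1, e2, e3⟩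
    · rw [e, map_one, Equiv.Perm.one_apply]
    · exact h _ _ e1 e2 e3
  | hmul A B hA hB => rw [map_mul, Equiv.Perm.mul_apply, hB, hA]

/-- Hyperplane stabilisers cannot occur for every point. -/
theorem hyperplanes_false (hι : 3 ≤ Fintype.card ι) [Nonempty Ω]
    (H : ∀ φ : ι → F, φ ≠ 0 → ∀ ω, ∃ y : ι → F, (∀ c : F, y ≠ c • φ) ∧
      ∀ v, φ ⬝ᵥ v = 0 → (π (T v φ) ω = ω ↔ y ⬝ᵥ v = 0)) : False := by
  classical
  obtain ⟨a⟩ : Nonempty ι := Fintype.card_pos_iff.1 (by omega)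
  set φ1 : ι → F := Pi.single a 1 with hφ1
  have hφ10 : φ1 ≠ 0 := by simp [hφ1]
  obtain ⟨ω⟩ := ‹Nonempty Ω›
  obtain ⟨y1, hy1i, hy1⟩ := H φ1 hφ10 ω
  obtain ⟨v0, hv0, hv0φ, hv0y⟩ := exists_ne_zero_orth hι φ1 y1
  have hv0fix : π (T v0 φ1) ω = ω := (hy1 v0 hv0φ).2 hv0y
  -- if some transvection at `v0` moves the point, a contradiction
  have key : ∀ v φ φ' : ι → F, φ ≠ 0 → φ ⬝ᵥ v = 0 → φ' ≠ 0 → φ' ⬝ᵥ v = 0 → v ≠ 0 →
      π (T v φ) ω = ω → π (T v φ') ω = ω := by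
    intro v φ φ' hφ hφv hφ' hφ'v hv hfix
    obtain ⟨y', hy'i, hy'⟩ := H φ' hφ' ω
    by_contra hne
    have hy'v : y' ⬝ᵥ v ≠ 0 := fun e => hne ((hy' v hφ'v).2 e)
    have hvan : ∀ u, φ' ⬝ᵥ u = 0 → y' ⬝ᵥ u = 0 → φ ⬝ᵥ u = 0 := by
      intro u hu1 hu2
      have hfu : π (T u φ') ω = ω := (hy' u hu1).2 hu2
      have hconj : T v φ * T u φ' * (T v φ)⁻¹ = T (u + (φ ⬝ᵥ u) • v) φ' := by
        rw [T_conj _ hu1, T_mulVec hφv, T_inv hφv,
          vecMul_T (by rw [dotProduct_neg, hφv, neg_zero]), dotProduct_neg, hφ'v, neg_zero,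
          zero_smul, add_zero]
      have h3 : π (T (u + (φ ⬝ᵥ u) • v) φ') ω = ω := by
        rw [← hconj, map_mul, map_mul, map_inv, Equiv.Perm.mul_apply, Equiv.Perm.mul_apply]
        have : (π (T v φ))⁻¹ ω = ω := by rw [Equiv.Perm.inv_eq_iff_eq]; exact hfix.symm
        rw [this, hfu, hfix]
      have h4 := (hy' _ (by rw [dotProduct_add, dotProduct_smul, hu1, hφ'v, smul_zero, add_zero])).1 h3
      rw [dotProduct_add, dotProduct_smul, hu2, zero_add, smul_eq_mul] at h4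
      exact (mul_eq_zero.1 h4).resolve_right hy'v
    have hker : ∀ u, φ' ⬝ᵥ u = 0 → φ ⬝ᵥ u = 0 := by
      intro u hu
      have e := hvan (u - (y' ⬝ᵥ u / y' ⬝ᵥ v) • v)
        (by rw [dotProduct_sub, dotProduct_smul, hu, hφ'v, smul_zero, sub_zero])
        (by rw [dotProduct_sub, dotProduct_smul, smul_eq_mul, div_mul_cancel₀ _ hy'v, sub_self])
      rwa [dotProduct_sub, dotProduct_smul, hφv, smul_zero, sub_zero] at e
    by_cases hdep : ∀ c : F, φ' ≠ c • φ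
    · obtain ⟨u, hu1, hu2⟩ := exists_dual hdep hφ 1
      rw [dotProduct_comm] at hu1 hu2
      rw [hker u hu2] at hu1
      exact zero_ne_one hu1
    · push Not at hdep
      obtain ⟨c, hc⟩ := hdep
      have hc0 : c ≠ 0 := fun e => hφ' (by rw [hc, e, zero_smul])
      have hfix' : π (T ((c⁻¹ : F) • v) φ') ω = ω := by
        rw [T_smul hφ'v, hc, smul_smul, inv_mul_cancel₀ hc0, one_smul]
        exact hfix
      have h4 := (hy' _ (by rw [dotProduct_smul, hφ'v, smul_zero])).1 hfix'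
      rw [dotProduct_smul, smul_eq_mul] at h4
      exact (mul_ne_zero (inv_ne_zero hc0) hy'v) h4
  -- the set of centres of fixing transvections
  let X : Set (ι → F) :=
    {v | ∀ φ : ι → F, φ ≠ 0 → φ ⬝ᵥ v = 0 → π (T v φ) ω = ω}
  have hX1 : ∀ v, φ1 ⬝ᵥ v = 0 → y1 ⬝ᵥ v = 0 → v ∈ X := by
    intro v hv hyv φ hφ hφv
    by_cases hv' : v = 0
    · rw [hv', T_zero_left, map_one, Equiv.Perm.one_apply]
    exact key v φ1 φ hφ10 hv hφ hφv hv' ((hy1 v hv).2 hyv)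
  have hXy : ∀ {φ y : ι → F}, φ ≠ 0 → (∀ v, φ ⬝ᵥ v = 0 → (π (T v φ) ω = ω ↔ y ⬝ᵥ v = 0)) →
      ∀ v, φ ⬝ᵥ v = 0 → v ∈ X → y ⬝ᵥ v = 0 := fun hφ hy v hv hvX => (hy v hv).1 (hvX _ hφ hv)
  have hXof : ∀ {φ y : ι → F}, φ ≠ 0 → (∀ v, φ ⬝ᵥ v = 0 → (π (T v φ) ω = ω ↔ y ⬝ᵥ v = 0)) →
      ∀ v, φ ⬝ᵥ v = 0 → y ⬝ᵥ v = 0 → v ∈ X := by
    intro φ y hφ hy v hv hyv φ' hφ' hφ'v
    by_cases hv' : v = 0
    · rw [hv', T_zero_left, map_one, Equiv.Perm.one_apply]
    exact key v φ φ' hφ hv hφ' hφ'v hv' ((hy v hv).2 hyv)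
  have hXsub : ∀ v, v ∈ X → φ1 ⬝ᵥ v = 0 := by
    intro z hz
    by_contra hz1
    set ψ : ι → F := y1 - (y1 ⬝ᵥ z / φ1 ⬝ᵥ z) • φ1 with hψ
    have hψ0 : ψ ≠ 0 := fun e => hy1i _ (sub_eq_zero.1 e)
    obtain ⟨yψ, hyψi, hyψ⟩ := H ψ hψ0 ω
    have hzψ : ψ ⬝ᵥ z = 0 := by
      rw [hψ, sub_dotProduct, smul_dotProduct, smul_eq_mul, div_mul_cancel₀ _ hz1, sub_self]
    obtain ⟨u, hu1, hu2⟩ := exists_dual (u := ψ) (v := yψ)
      (fun c hc => by
        by_cases hc0 : c = 0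
        · exact hψ0 (by rw [hc, hc0, zero_smul])
        · exact hyψi c⁻¹ (by rw [hc, smul_smul, inv_mul_cancel₀ hc0, one_smul]))
      (fun e => hyψi 0 (by rw [e, zero_smul])) 1
    rw [dotProduct_comm] at hu1 hu2
    set c := φ1 ⬝ᵥ u / φ1 ⬝ᵥ z with hcdef
    have hs1 : φ1 ⬝ᵥ (u - c • z) = 0 := by
      rw [dotProduct_sub, dotProduct_smul, smul_eq_mul, hcdef, div_mul_cancel₀ _ hz1, sub_self]
    have hs2 : y1 ⬝ᵥ (u - c • z) = 0 := by
      have : y1 = ψ + (y1 ⬝ᵥ z / φ1 ⬝ᵥ z) • φ1 := by rw [hψ, sub_add_cancel]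
      rw [this, add_dotProduct, smul_dotProduct, hs1, smul_zero, add_zero, dotProduct_sub,
        dotProduct_smul, hu2, hzψ, smul_zero, sub_zero]
    have hsψ : ψ ⬝ᵥ (u - c • z) = 0 := by
      rw [dotProduct_sub, dotProduct_smul, hu2, hzψ, smul_zero, sub_zero]
    have e1 := hXy hψ0 hyψ _ hsψ (hX1 _ hs1 hs2)
    have e2 := hXy hψ0 hyψ z hzψ hz
    rw [dotProduct_sub, dotProduct_smul, hu1, e2, smul_zero, sub_zero] at e1
    exact one_ne_zero e1
  obtain ⟨i, hi⟩ := Function.ne_iff.1 hv0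
  rw [Pi.zero_apply] at hi
  set φ2 : ι → F := Pi.single i (v0 i)⁻¹ with hφ2
  have hφ2v : φ2 ⬝ᵥ v0 = 1 := by rw [hφ2, single_dotProduct, inv_mul_cancel₀ hi]
  have hφ20 : φ2 ≠ 0 := fun e => by rw [e, zero_dotProduct] at hφ2v; exact zero_ne_one hφ2v
  obtain ⟨y2, hy2i, hy2⟩ := H φ2 hφ20 ω
  have hK2 : ∀ u, φ2 ⬝ᵥ u = 0 → y2 ⬝ᵥ u = 0 → φ1 ⬝ᵥ u = 0 ∧ y1 ⬝ᵥ u = 0 := by
    intro u hu1 hu2
    have hX := hXof hφ20 hy2 u hu1 hu2
    exact ⟨hXsub u hX, hXy hφ10 hy1 u (hXsub u hX) hX⟩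
  obtain ⟨e, he1, he2⟩ := exists_dual hy2i hφ20 1
  obtain ⟨f, hf1, hf2⟩ := exists_dual (u := φ2) (v := y2)
    (fun c hc => by
      by_cases hc0 : c = 0
      · exact hφ20 (by rw [hc, hc0, zero_smul])
      · exact hy2i c⁻¹ (by rw [hc, smul_smul, inv_mul_cancel₀ hc0, one_smul]))
    (fun h => hy2i 0 (by rw [h, zero_smul])) 1
  rw [dotProduct_comm] at he1 he2 hf1 hf2
  have hexp : ∀ u, φ1 ⬝ᵥ u = (φ2 ⬝ᵥ u) * (φ1 ⬝ᵥ e) + (y2 ⬝ᵥ u) * (φ1 ⬝ᵥ f) ∧
      y1 ⬝ᵥ u = (φ2 ⬝ᵥ u) * (y1 ⬝ᵥ e) + (y2 ⬝ᵥ u) * (y1 ⬝ᵥ f) := by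
    intro u
    have h := hK2 (u - (φ2 ⬝ᵥ u) • e - (y2 ⬝ᵥ u) • f)
      (by simp [dotProduct_sub, dotProduct_smul, he1, hf2])
      (by simp [dotProduct_sub, dotProduct_smul, he2, hf1])
    simp only [dotProduct_sub, dotProduct_smul, smul_eq_mul] at h
    exact ⟨by linear_combination h.1, by linear_combination h.2⟩
  set b := y2 ⬝ᵥ v0 with hb
  have h01 := (hexp v0).1
  have h02 := (hexp v0).2
  rw [hv0φ, hφ2v, one_mul, ← hb] at h01
  rw [hv0y, hφ2v, one_mul, ← hb] at h02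
  obtain ⟨v1, hv11, hv12⟩ := exists_dual (u := φ1) (v := y1)
    (fun c hc => by
      by_cases hc0 : c = 0
      · exact hφ10 (by rw [hc, hc0, zero_smul])
      · exact hy1i c⁻¹ (by rw [hc, smul_smul, inv_mul_cancel₀ hc0, one_smul]))
    (fun h => hy1i 0 (by rw [h, zero_smul])) 1
  obtain ⟨v2, hv21, -⟩ := exists_dual hy1i hφ10 1
  rw [dotProduct_comm] at hv11 hv12 hv21
  obtain ⟨e11, e12⟩ := hexp v1
  obtain ⟨e21, -⟩ := hexp v2
  rw [hv12] at e11
  rw [hv11] at e12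
  rw [hv21] at e21
  set t := y2 ⬝ᵥ v1 - b * (φ2 ⬝ᵥ v1)
  have r1 : (φ1 ⬝ᵥ f) * t = 0 := by
    simp only [t]; linear_combination -e11 + (φ2 ⬝ᵥ v1) * h01
  have r2 : (y1 ⬝ᵥ f) * t = 1 := by
    simp only [t]; linear_combination -e12 + (φ2 ⬝ᵥ v1) * h02
  rcases mul_eq_zero.1 r1 with h | h
  · exact one_ne_zero (α := F) (by
      linear_combination e21 - (φ2 ⬝ᵥ v2) * h01 +
        ((y2 ⬝ᵥ v2) - b * (φ2 ⬝ᵥ v2)) * h)
  · rw [h, mul_zero] at r2
    exact zero_ne_one r2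

/-- In a small non-trivial transitive action the translation groups are all or nothing. -/
theorem allOrNone_of_small (hι : 3 ≤ Fintype.card ι) [Nontrivial Ω]
    (hΩ : Fintype.card Ω < Fintype.card F ^ (Fintype.card ι - 1) +
      lineCount (Fintype.card F) (Fintype.card ι - 1))
    (htrans : ∀ ω ν : Ω, ∃ g, π g ω = ν) (a : ι) :
    AllOrNone π ∧ ∀ ω, (∀ x, π (U a x) ω = ω) ∨ ((∀ x, π (U a x) ω = ω → x = 0) ∧
      ∀ ν, (∀ x, π (U a x) ν = ν) ∨ ∃ x, π (U a x) ω = ν) := by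
  rcases trichotomy π a hι hΩ with h | h | h
  · exfalso
    obtain ⟨ω, ν, hne⟩ := exists_pair_ne Ω
    obtain ⟨g, hg⟩ := htrans ω ν
    rw [fixed_all π (fun v φ hv _ hφ => ?_) g] at hg
    · exact hne hg
    obtain ⟨k, -, hk⟩ := transfer π hι a hφ
    obtain ⟨x, -, hx⟩ := hk v hv
    exact (hx _).2 (h _ x)
  · refine ⟨?_, h⟩
    intro v φ hv hv0 hφ ω hfix v' hv'
    obtain ⟨k, -, hk⟩ := transfer π hι a hφ
    obtain ⟨x, hxv, hx⟩ := hk v hv
    obtain ⟨x', -, hx'⟩ := hk v' hv'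
    rcases h (π k ω) with hall | ⟨hfree, -⟩
    · exact (hx' ω).2 (hall x')
    · have hx0 := hfree x ((hx ω).1 hfix)
      rw [hx0, ext_zero] at hxv
      exfalso
      apply hv0
      have : ((k⁻¹ : SpecialLinearGroup ι F) : Matrix ι ι F) *ᵥ ((k : Matrix ι ι F) *ᵥ v) = 0 := by
        rw [← hxv, Matrix.mulVec_zero]
      rwa [Matrix.mulVec_mulVec, show ((k⁻¹ : SpecialLinearGroup ι F) : Matrix ι ι F) *
        (k : Matrix ι ι F) = 1 from congrArg Subtype.val (inv_mul_cancel k),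
        Matrix.one_mulVec] at this
  · exfalso
    refine hyperplanes_false π hι ?_
    intro φ hφ ω
    obtain ⟨k, hkφ, hk⟩ := transfer π hι a hφ
    obtain ⟨y, hy0, hy⟩ := h (π k ω)
    refine ⟨ext a y ᵥ* (k : Matrix ι ι F), ?_, fun v hv => ?_⟩
    · intro c hc
      rw [hkφ, ← Matrix.smul_vecMul] at hc
      have h2 := congrArg (fun z => z ᵥ* ((k⁻¹ : SpecialLinearGroup ι F) : Matrix ι ι F)) hc
      simp only [Matrix.vecMul_vecMul, show (k : Matrix ι ι F) *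
        ((k⁻¹ : SpecialLinearGroup ι F) : Matrix ι ι F) = 1 from
        congrArg Subtype.val (mul_inv_cancel k), Matrix.vecMul_one] at h2
      apply hy0
      funext i
      have := congrFun h2 i.1
      simpa [ext_coe, i.2] using this
    · obtain ⟨x, hxv, hx⟩ := hk v hv
      rw [hx, hy, ← Matrix.dotProduct_mulVec, ← hxv, ext_dot]

/-- A transitive action on fewer points than projective space is trivial. -/
theorem subsingleton_of_small (hι : 3 ≤ Fintype.card ι)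
    (hexc : ¬(Fintype.card ι = 4 ∧ Fintype.card F = 2))
    (hΩ : Fintype.card Ω < Fintype.card F ^ (Fintype.card ι - 1) +
      lineCount (Fintype.card F) (Fintype.card ι - 1))
    (htrans : ∀ ω ν : Ω, ∃ g, π g ω = ν) : Subsingleton Ω := by
  classical
  rcases subsingleton_or_nontrivial Ω with h | h
  · exact h
  exfalso
  obtain ⟨a⟩ : Nonempty ι := Fintype.card_pos_iff.1 (by omega)
  obtain ⟨h1, hA⟩ := allOrNone_of_small π hι hΩ htrans a
  have h2 := (allOrNone_of_small (π.comp trInv) hι hΩ (fun ω ν => by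
    obtain ⟨g, hg⟩ := htrans ω ν
    obtain ⟨k, hk⟩ := trInv_surjective g
    exact ⟨k, by rw [MonoidHom.comp_apply, hk, hg]⟩) a).1
  have hdual : ∀ v φ : ι → F, φ ⬝ᵥ v = 0 → v ≠ 0 → φ ≠ 0 → ∀ ω, π (T v φ) ω = ω →
      ∀ φ', φ' ⬝ᵥ v = 0 → π (T v φ') ω = ω := by
    intro v φ hv hv0 hφ0 ω hfix φ' hφ'
    have e : ∀ ψ : ι → F, ψ ⬝ᵥ v = 0 → trInv (T ψ (-v)) = T (-v) (-ψ) := fun ψ hψ =>
      trInv_T (by rw [neg_dotProduct, dotProduct_comm, hψ, neg_zero])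
    have e' : ∀ ψ : ι → F, ψ ⬝ᵥ v = 0 → T (-v) (-ψ) = T v ψ := fun ψ hψ => by
      rw [← neg_one_smul F v, T_smul (by rw [neg_dotProduct, hψ, neg_zero]), neg_one_smul, neg_neg]
    have := h2 φ (-v) (by rw [neg_dotProduct, dotProduct_comm, hv, neg_zero]) hφ0
      (neg_ne_zero.2 hv0) ω (by rw [MonoidHom.comp_apply, e φ hv, e' φ hv]; exact hfix) φ'
      (by rw [neg_dotProduct, dotProduct_comm, hφ', neg_zero])
    rwa [MonoidHom.comp_apply, e φ' hφ', e' φ' hφ'] at this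
  have hfpf : ∀ v φ : ι → F, φ ⬝ᵥ v = 0 → v ≠ 0 → φ ≠ 0 → ∀ ω, π (T v φ) ω ≠ ω := by
    intro v φ hv hv0 hφ0 ω hfix
    obtain ⟨ν, hν⟩ := exists_ne ω
    obtain ⟨g, hg⟩ := htrans ω ν
    apply hν
    rw [← hg]
    refine fixed_all π (fun v' φ' hv' hv'0 hφ'0 => ?_) g
    obtain ⟨u, hu0, hu1, hu2⟩ := exists_ne_zero_orth hι φ φ'
    exact h1 u φ' hu2 hu0 hφ'0 ω
      (hdual u φ hu1 hu0 hφ0 ω (h1 v φ hv hv0 hφ0 ω hfix u hu1) φ' hu2) v' hv'
  have hnofix : ∀ ω, ¬ ∀ x, π (U a x) ω = ω := by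
    intro ω hall
    obtain ⟨i, hi⟩ := Fintype.exists_ne_of_one_lt_card (by omega : 1 < Fintype.card ι) a
    refine hfpf (ext a (Pi.single ⟨i, hi⟩ 1)) (Pi.single a 1) (single_dot_ext a 1 _) ?_ (by simp)
      ω (hall _)
    rw [single_ext]
    simp
  have hT : ∀ ω ν : Ω, ∃ x, π (U a x) ω = ν := by
    intro ω ν
    rcases hA ω with hω | ⟨-, hω⟩
    · exact absurd hω (hnofix ω)
    rcases hω ν with hν | hν
    · exact absurd hν (hnofix ν)
    · exact hν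
  obtain ⟨ω₀, -, -⟩ := exists_pair_ne Ω
  by_cases hμ : ∃ μ : F, μ ≠ 0 ∧ μ ^ Fintype.card ι ≠ 1
  · obtain ⟨μ, hμ0, hμ1⟩ := hμ
    exact torus_false π a hfpf hT hι ω₀ hμ0 hμ1
  push Not at hμ
  refine cocycle_false π a hfpf hT hι ω₀ ?_
  rcases Nat.lt_or_ge (Fintype.card ι) 5 with h5 | h5
  · right
    rcases Nat.lt_or_ge (Fintype.card ι) 4 with h4 | h4
    · right
      refine ⟨by omega, ?_⟩
      have := hμ (-1) (by simp)
      rw [show Fintype.card ι = 3 by omega] at this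
      linear_combination -this
    · left
      refine ⟨by omega, fun h2 => hexc ⟨by omega, ?_⟩⟩
      have hch : CharP F 2 := CharTwo.of_one_ne_zero_of_two_eq_zero one_ne_zero h2
      have hall : ∀ x : F, x ≠ 0 → x = 1 := by
        intro x hx
        have := hμ x hx
        rw [show Fintype.card ι = 4 by omega] at this
        have e : (x + 1) ^ 4 = 0 := by
          linear_combination this + (1 + 2 * x + 3 * x ^ 2 + 2 * x ^ 3) * h2
        have := pow_eq_zero_iff (by norm_num : 4 ≠ 0) |>.1 e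
        linear_combination this - h2
      have hu : (Finset.univ : Finset F) = {0, 1} := by
        ext x
        simp only [Finset.mem_univ, Finset.mem_insert, Finset.mem_singleton, true_iff]
        exact (em (x = 0)).imp id (hall x)
      rw [← Finset.card_univ, hu, Finset.card_pair zero_ne_one]
  · exact Or.inl h5

end CfsgLib.KnownA.MinIndex
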