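import Cfsg.Agent.Lib.KnownA.MinIndex.Transv
import Mathlib.Analysis.Fourier.FiniteAbelian.PontryaginDuality

/-!
# Small permutation actions of `SL n`: the orbits of a translation group
-/

set_option autoImplicit false
set_option linter.unusedSectionVars false

open Matrix Finset

namespace CfsgLib.KnownA.MinIndex

variable {F : Type*} [Field F] {ι : Type*} [Fintype ι] [DecidableEq ι]

/-- The other indices. -/
abbrev Rest (a : ι) := {i : ι // i ≠ a}

/-- Extension by zero at `a`. -/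
def ext (a : ι) (x : Rest a → F) : ι → F := fun i => if h : i ≠ a then x ⟨i, h⟩ else 0

theorem ext_self (a : ι) (x : Rest a → F) : ext a x a = 0 := by simp [ext]

theorem ext_coe (a : ι) (x : Rest a → F) (i : Rest a) : ext a x i = x i := by simp [ext, i.2]

theorem ext_add (a : ι) (x y : Rest a → F) : ext a (x + y) = ext a x + ext a y := by
  funext i; by_cases h : i = a <;> simp [ext, h]

theorem ext_smul (a : ι) (c : F) (x : Rest a → F) : ext a (c • x) = c • ext a x := by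
  funext i; by_cases h : i = a <;> simp [ext, h]

theorem ext_zero (a : ι) : ext a (0 : Rest a → F) = 0 := by funext i; simp [ext]

theorem ext_injective (a : ι) : Function.Injective (ext (F := F) a) := fun x y h => by
  funext i; rw [← ext_coe a x i, h, ext_coe]

theorem ext_dot (a : ι) (x y : Rest a → F) : ext a x ⬝ᵥ ext a y = x ⬝ᵥ y := by
  simp only [dotProduct]
  rw [← Finset.add_sum_erase _ _ (Finset.mem_univ a), ext_self, zero_mul, zero_add,
    Finset.sum_subtype (p := fun i => i ≠ a) (Finset.univ.erase a) (fun i => by simp)]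
  exact Finset.sum_congr rfl fun i _ => by rw [ext_coe, ext_coe]

theorem single_dot_ext (a : ι) (c : F) (x : Rest a → F) : Pi.single a c ⬝ᵥ ext a x = 0 := by
  rw [single_dotProduct, ext_self, mul_zero]

/-- The translation group at `a`. -/
noncomputable def U (a : ι) (x : Rest a → F) : SpecialLinearGroup ι F :=
  T (ext a x) (Pi.single a 1)

theorem U_add (a : ι) (x y : Rest a → F) : U a (x + y) = U a x * U a y := by
  rw [U, U, U, T_mul_left (single_dot_ext a 1 x) (single_dot_ext a 1 y), ext_add]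

theorem U_zero (a : ι) : U a (0 : Rest a → F) = 1 := by rw [U, ext_zero, T_zero_left]

/-- The Levi transvection. -/
noncomputable def Lev (a : ι) (w ψ : Rest a → F) : SpecialLinearGroup ι F :=
  T (ext a w) (ext a ψ)

theorem Lev_conj_U (a : ι) {w ψ : Rest a → F} (h : ψ ⬝ᵥ w = 0) (x : Rest a → F) :
    Lev a w ψ * U a x * (Lev a w ψ)⁻¹ = U a (x + (ψ ⬝ᵥ x) • w) := by
  have h' : ext a ψ ⬝ᵥ ext a w = 0 := by rw [ext_dot, h]
  rw [U, T_conj _ (single_dot_ext a 1 x), Lev, T_inv h', T_mulVec h',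
    vecMul_T (by rw [dotProduct_neg, h', neg_zero]), dotProduct_neg, single_dot_ext, neg_zero,
    zero_smul, add_zero, ext_dot, U, ext_add, ext_smul]

variable [Fintype F] {Ω : Type*} [Fintype Ω] [DecidableEq Ω]
variable (π : SpecialLinearGroup ι F →* Equiv.Perm Ω) (a : ι)

/-- The orbit of the translation group. -/
noncomputable def orb (ω : Ω) : Finset Ω := by
  classical exact Finset.univ.image fun x => π (U a x) ω

theorem mem_orb {ω ν : Ω} : ν ∈ orb π a ω ↔ ∃ x, π (U a x) ω = ν := by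
  classical simp [orb]

theorem pi_U_add (x y : Rest a → F) (ω : Ω) :
    π (U a (x + y)) ω = π (U a x) (π (U a y) ω) := by
  rw [U_add, map_mul, Equiv.Perm.mul_apply]

theorem pi_U_zero (ω : Ω) : π (U a (0 : Rest a → F)) ω = ω := by
  rw [U_zero, map_one, Equiv.Perm.one_apply]

/-- The translations fixing a point. -/
noncomputable def stab (ω : Ω) : AddSubgroup (Rest a → F) where
  carrier := {x | π (U a x) ω = ω}
  zero_mem' := pi_U_zero π a ω
  add_mem' {x y} hx hy := by
    change π (U a (x + y)) ω = ω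
    rw [pi_U_add, hy, hx]
  neg_mem' {x} hx := by
    change π (U a (-x)) ω = ω
    conv_lhs => rw [← show π (U a x) ω = ω from hx]
    rw [← pi_U_add, neg_add_cancel, pi_U_zero]

theorem mem_stab {ω : Ω} {x : Rest a → F} : x ∈ stab π a ω ↔ π (U a x) ω = ω := Iff.rfl

theorem stab_of_mem_orb {ω ν : Ω} (h : ν ∈ orb π a ω) : stab π a ν = stab π a ω := by
  obtain ⟨y, rfl⟩ := (mem_orb π a).1 h
  ext x
  rw [mem_stab, mem_stab, ← pi_U_add, add_comm, pi_U_add]
  exact ⟨fun e => (π (U a y)).injective e, fun e => by rw [e]⟩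

theorem self_mem_orb (ω : Ω) : ω ∈ orb π a ω := (mem_orb π a).2 ⟨0, pi_U_zero π a ω⟩

theorem orb_of_mem_orb {ω ν : Ω} (h : ν ∈ orb π a ω) : orb π a ν = orb π a ω := by
  obtain ⟨y, rfl⟩ := (mem_orb π a).1 h
  ext z
  simp only [mem_orb]
  constructor
  · rintro ⟨x, rfl⟩; exact ⟨x + y, pi_U_add π a x y ω⟩
  · rintro ⟨x, rfl⟩
    exact ⟨x - y, by rw [← pi_U_add, sub_add_cancel]⟩

theorem card_orb (ω : Ω) :
    Nat.card ((Rest a → F) ⧸ stab π a ω) = (orb π a ω).card := by
  classical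
  let f : (Rest a → F) ⧸ stab π a ω → orb π a ω :=
    Quotient.lift (fun x => ⟨π (U a x) ω, (mem_orb π a).2 ⟨x, rfl⟩⟩) (by
      intro x y hxy
      apply Subtype.ext
      have h : π (U a (-x + y)) ω = ω := QuotientAddGroup.leftRel_apply.1 hxy
      change π (U a x) ω = π (U a y) ω
      rw [show y = x + (-x + y) by abel, pi_U_add π a x, h])
  rw [← Nat.card_eq_finsetCard]
  refine Nat.card_congr (Equiv.ofBijective f ⟨?_, ?_⟩)
  · rintro ⟨x⟩ ⟨y⟩ h
    apply Quotient.sound
    refine QuotientAddGroup.leftRel_apply.2 ?_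
    have h' : π (U a x) ω = π (U a y) ω := congrArg Subtype.val h
    rw [mem_stab, pi_U_add, ← h', ← pi_U_add, neg_add_cancel, pi_U_zero]
  · rintro ⟨z, hz⟩
    obtain ⟨x, rfl⟩ := (mem_orb π a).1 hz
    exact ⟨QuotientAddGroup.mk x, rfl⟩

variable (χ : AddChar F ℂ)

/-- The character attached to a covector. -/
noncomputable def chr (y : Rest a → F) : AddChar (Rest a → F) ℂ :=
  χ.compAddMonoidHom (AddMonoidHom.mk' (fun x => y ⬝ᵥ x) (dotProduct_add y))

theorem chr_apply (y x : Rest a → F) : chr a χ y x = χ (y ⬝ᵥ x) := rfl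

/-- The annihilator of the stabiliser. -/
noncomputable def ann (ω : Ω) : Finset (Rest a → F) := by
  classical exact Finset.univ.filter fun y => ∀ x ∈ stab π a ω, χ (y ⬝ᵥ x) = 1

theorem mem_ann {ω : Ω} {y : Rest a → F} :
    y ∈ ann π a χ ω ↔ ∀ x ∈ stab π a ω, χ (y ⬝ᵥ x) = 1 := by
  classical simp [ann]

theorem zero_mem_ann (ω : Ω) : (0 : Rest a → F) ∈ ann π a χ ω :=
  (mem_ann π a χ).2 fun x _ => by rw [zero_dotProduct, AddChar.map_zero_eq_one]

theorem ann_sub {ω : Ω} {y z : Rest a → F} (hy : y ∈ ann π a χ ω) (hz : z ∈ ann π a χ ω) :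
    y - z ∈ ann π a χ ω := (mem_ann π a χ).2 fun x hx => by
  rw [sub_dotProduct, AddChar.map_sub_eq_div, (mem_ann π a χ).1 hy x hx,
    (mem_ann π a χ).1 hz x hx, div_one]

variable {χ} (hχ : χ 1 ≠ 1)

include hχ

theorem exists_chr_ne_one {y : Rest a → F} (hy : y ≠ 0) : ∃ x, χ (y ⬝ᵥ x) ≠ 1 := by
  obtain ⟨i, hi⟩ := Function.ne_iff.1 hy
  exact ⟨Pi.single i (y i)⁻¹, by rwa [dotProduct_single, mul_inv_cancel₀ hi]⟩

theorem chr_bijective : Function.Bijective (chr a χ) := by
  classical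
  refine (Fintype.bijective_iff_injective_and_card _).2 ⟨?_, (AddChar.card_eq).symm⟩
  intro y z h
  by_contra hne
  obtain ⟨x, hx⟩ := exists_chr_ne_one a hχ (sub_ne_zero.2 hne)
  apply hx
  rw [sub_dotProduct, AddChar.map_sub_eq_div, ← chr_apply, ← chr_apply, h, chr_apply, div_self]
  exact (AddChar.val_isUnit χ _).ne_zero

theorem card_ann (ω : Ω) : (ann π a χ ω).card = (orb π a ω).card := by
  classical
  have : Fintype ((Rest a → F) ⧸ stab π a ω) := Fintype.ofFinite _
  rw [← card_orb π a ω, Nat.card_eq_fintype_card,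
    ← AddChar.card_eq (α := (Rest a → F) ⧸ stab π a ω), ← Nat.card_eq_fintype_card,
    ← Nat.card_eq_finsetCard]
  let f : ann π a χ ω → AddChar ((Rest a → F) ⧸ stab π a ω) ℂ := fun y =>
    { toFun := fun z => Quotient.liftOn' z (fun x => χ (y.1 ⬝ᵥ x)) (by
        intro x x' hxx
        have h := (mem_ann π a χ).1 y.2 _ (QuotientAddGroup.leftRel_apply.1 hxx)
        change χ (y.1 ⬝ᵥ x) = χ (y.1 ⬝ᵥ x')
        rw [show x' = x + (-x + x') by abel, dotProduct_add y.1 x, AddChar.map_add_eq_mul, h,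
          mul_one])
      map_zero_eq_one' := by
        change χ (y.1 ⬝ᵥ 0) = 1
        rw [dotProduct_zero, AddChar.map_zero_eq_one]
      map_add_eq_mul' := by
        rintro ⟨x⟩ ⟨x'⟩
        change χ (y.1 ⬝ᵥ (x + x')) = χ (y.1 ⬝ᵥ x) * χ (y.1 ⬝ᵥ x')
        rw [dotProduct_add, AddChar.map_add_eq_mul] }
  refine Nat.card_congr (Equiv.ofBijective f ⟨?_, ?_⟩)
  · intro y z h
    apply Subtype.ext
    apply (chr_bijective a hχ).1
    ext x
    exact DFunLike.congr_fun h (QuotientAddGroup.mk x)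
  · intro c
    obtain ⟨y, hy⟩ := (chr_bijective a hχ).2
      (c.compAddMonoidHom (QuotientAddGroup.mk' (stab π a ω)))
    refine ⟨⟨y, (mem_ann π a χ).2 fun x hx => ?_⟩, ?_⟩
    · rw [← chr_apply a χ y x, hy]
      change c (QuotientAddGroup.mk x) = 1
      rw [(QuotientAddGroup.eq_zero_iff x).2 hx, AddChar.map_zero_eq_one]
    · apply DFunLike.ext
      rintro ⟨x⟩
      exact DFunLike.congr_fun hy x

/-- A line annihilator forces a hyperplane stabiliser. -/
theorem stab_of_line {ω : Ω} {y : Rest a → F} (hy : y ≠ 0)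
    (hline : ∀ c : F, c • y ∈ ann π a χ ω) (hcard : (orb π a ω).card = Fintype.card F)
    (x : Rest a → F) : π (U a x) ω = ω ↔ y ⬝ᵥ x = 0 := by
  classical
  have hle : ∀ x, x ∈ stab π a ω → y ⬝ᵥ x = 0 := by
    intro x hx
    by_contra hne
    have := (mem_ann π a χ).1 (hline (y ⬝ᵥ x)⁻¹) x hx
    rw [smul_dotProduct, smul_eq_mul, inv_mul_cancel₀ hne] at this
    exact hχ this
  refine ⟨hle x, fun hx => ?_⟩
  let K : AddSubgroup (Rest a → F) :=
    (AddMonoidHom.mk' (fun z => y ⬝ᵥ z) (dotProduct_add y)).ker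
  have hsurj : Function.Surjective (AddMonoidHom.mk' (fun z => y ⬝ᵥ z) (dotProduct_add y)) := by
    intro c
    obtain ⟨i, hi⟩ := Function.ne_iff.1 hy
    refine ⟨Pi.single i (c / y i), ?_⟩
    change y ⬝ᵥ Pi.single i (c / y i) = c
    rw [dotProduct_single, mul_div_cancel₀ c hi]
  have hK : K.index = Fintype.card F := by
    rw [AddSubgroup.index_eq_card, ← Nat.card_eq_fintype_card]
    exact Nat.card_congr (QuotientAddGroup.quotientKerEquivOfSurjective _ hsurj).toEquiv
  have hsub : stab π a ω ≤ K := fun z hz => hle z hz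
  have heq : stab π a ω = K := by
    have hidx : (stab π a ω).index = K.index := by
      rw [hK, AddSubgroup.index_eq_card, card_orb π a ω, hcard]
    have h1 := AddSubgroup.relIndex_mul_index hsub
    rw [hidx] at h1
    have h2 : (stab π a ω).relIndex K = 1 :=
      Nat.eq_one_of_mul_eq_one_left (m := 1) (n := (stab π a ω).relIndex K) (by
        have hpos : 0 < K.index := by rw [hK]; exact Fintype.card_pos
        simpa using Nat.eq_of_mul_eq_mul_right hpos (h1.trans (one_mul _).symm))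
    exact le_antisymm hsub (AddSubgroup.relIndex_eq_one.1 h2)
  have : x ∈ stab π a ω := by rw [heq]; exact hx
  exact this

omit hχ in
theorem lev_stab (ω : Ω) {w ψ : Rest a → F} (h : ψ ⬝ᵥ w = 0) (x : Rest a → F) :
    x + (ψ ⬝ᵥ x) • w ∈ stab π a (π (Lev a w ψ) ω) ↔ x ∈ stab π a ω := by
  rw [mem_stab, mem_stab, ← Lev_conj_U a h x, map_mul, map_mul, map_inv, Equiv.Perm.mul_apply,
    Equiv.Perm.mul_apply, Equiv.Perm.inv_def, Equiv.symm_apply_apply]
  exact ⟨fun e => (π (Lev a w ψ)).injective e, fun e => by rw [e]⟩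

omit hχ in
theorem lev_shift_surj {w ψ : Rest a → F} (h : ψ ⬝ᵥ w = 0) (x : Rest a → F) :
    ∃ x₀, x₀ + (ψ ⬝ᵥ x₀) • w = x := by
  refine ⟨x - (ψ ⬝ᵥ x) • w, ?_⟩
  rw [dotProduct_sub, dotProduct_smul, h, smul_zero, sub_zero, sub_add_cancel]

omit hχ in
theorem lev_orb (ω : Ω) {w ψ : Rest a → F} (h : ψ ⬝ᵥ w = 0) :
    orb π a (π (Lev a w ψ) ω) = (orb π a ω).image (π (Lev a w ψ)) := by
  classical
  have e : ∀ x, π (U a (x + (ψ ⬝ᵥ x) • w)) (π (Lev a w ψ) ω) =
      π (Lev a w ψ) (π (U a x) ω) := by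
    intro x
    rw [← Lev_conj_U a h x, map_mul, map_mul, map_inv, Equiv.Perm.mul_apply,
      Equiv.Perm.mul_apply, Equiv.Perm.inv_def, Equiv.symm_apply_apply]
  ext z
  simp only [mem_orb, Finset.mem_image]
  constructor
  · rintro ⟨x, rfl⟩
    obtain ⟨x₀, rfl⟩ := lev_shift_surj a h x
    exact ⟨π (U a x₀) ω, ⟨x₀, rfl⟩, (e x₀).symm⟩
  · rintro ⟨z, ⟨x₀, rfl⟩, rfl⟩
    exact ⟨_, e x₀⟩

omit hχ in
theorem lev_ann (ω : Ω) {w ψ : Rest a → F} (h : ψ ⬝ᵥ w = 0) (y : Rest a → F) :
    y ∈ ann π a χ (π (Lev a w ψ) ω) ↔ y + (y ⬝ᵥ w) • ψ ∈ ann π a χ ω := by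
  have hd : ∀ x, (y + (y ⬝ᵥ w) • ψ) ⬝ᵥ x = y ⬝ᵥ (x + (ψ ⬝ᵥ x) • w) := by
    intro x
    rw [add_dotProduct, smul_dotProduct, dotProduct_add, dotProduct_smul, smul_eq_mul, smul_eq_mul,
      mul_comm]
  rw [mem_ann, mem_ann]
  constructor
  · intro H x hx
    rw [hd]
    exact H _ ((lev_stab π a ω h x).2 hx)
  · intro H x hx
    obtain ⟨x₀, rfl⟩ := lev_shift_surj a h x
    rw [← hd]
    exact H x₀ ((lev_stab π a ω h x₀).1 hx)

end CfsgLib.KnownA.MinIndex
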