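import Cfsg.Agent.Lib.KnownA.MinIndex.Main
import Cfsg.Agent.Lib.Classical.SLBasic

/-!
# The minimal index of a proper subgroup of `PSL n`
-/

set_option autoImplicit false
set_option backward.isDefEq.respectTransparency false

open Matrix

namespace CfsgLib.KnownA.MinIndex

variable {F : Type*} [Field F] [Fintype F] {n : ℕ}

theorem lineCount_eq (q : ℕ) (hq : 2 ≤ q) (n : ℕ) :
    lineCount q n = (q ^ n - 1) / (q - 1) := Nat.geomSum_eq hq n

theorem lineCount_succ (q : ℕ) (hn : 1 ≤ n) :
    lineCount q n = q ^ (n - 1) + lineCount q (n - 1) := by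
  obtain ⟨k, rfl⟩ := Nat.exists_eq_add_of_le' hn
  simp [lineCount, Finset.sum_range_succ, add_comm]

/-- Every proper subgroup has index at least the number of points. -/
theorem index_ge (hn : 3 ≤ n) (hexc : ¬(n = 4 ∧ Fintype.card F = 2))
    (H : Subgroup (ProjectiveSpecialLinearGroup (Fin n) F)) (hH : H ≠ ⊤) :
    lineCount (Fintype.card F) n ≤ H.index := by
  classical
  have : Finite (SpecialLinearGroup (Fin n) F) := inferInstance
  have : Finite (ProjectiveSpecialLinearGroup (Fin n) F) := inferInstance
  letI : Fintype (ProjectiveSpecialLinearGroup (Fin n) F ⧸ H) := Fintype.ofFinite _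
  let π : SpecialLinearGroup (Fin n) F →*
      Equiv.Perm (ProjectiveSpecialLinearGroup (Fin n) F ⧸ H) :=
    (MulAction.toPermHom (ProjectiveSpecialLinearGroup (Fin n) F) _).comp
      (QuotientGroup.mk' (Subgroup.center (SpecialLinearGroup (Fin n) F)))
  by_contra hlt
  push Not at hlt
  have hs : Subsingleton (ProjectiveSpecialLinearGroup (Fin n) F ⧸ H) := by
    refine subsingleton_of_small π (by rwa [Fintype.card_fin])
      (by rwa [Fintype.card_fin]) ?_ ?_
    · rw [Fintype.card_fin, ← lineCount_succ _ (by omega), ← Nat.card_eq_fintype_card,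
        ← Subgroup.index_eq_card]
      exact hlt
    · intro ω ν
      obtain ⟨g, hg⟩ := MulAction.exists_smul_eq (ProjectiveSpecialLinearGroup (Fin n) F) ω ν
      obtain ⟨k, rfl⟩ := QuotientGroup.mk'_surjective _ g
      exact ⟨k, hg⟩
  exact hH (QuotientGroup.subgroup_eq_top_of_subsingleton H hs)

/-- The stabiliser of a point attains the bound. -/
theorem exists_index (hn : 3 ≤ n) :
    ∃ H : Subgroup (ProjectiveSpecialLinearGroup (Fin n) F),
      H.index = lineCount (Fintype.card F) n := by
  have : Nontrivial (Fin n) := Fin.nontrivial_iff_two_le.2 (by omega)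
  let p : Projectivization F (Fin n → F) :=
    Projectivization.mk F (Pi.single (⟨0, by omega⟩ : Fin n) (1 : F)) (by simp)
  refine ⟨MulAction.stabilizer _ p, ?_⟩
  rw [MulAction.index_stabilizer_of_transitive,
    Projectivization.card_of_finrank F (Fin n → F) (n := n) (by simp), Nat.card_eq_fintype_card]

end CfsgLib.KnownA.MinIndex
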