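import Cfsg.Agent.Lib.Classical.SLBasic
import Mathlib.LinearAlgebra.Matrix.SchurComplement

/-!
# Transvections of `SL n` given by a vector and a covector
-/

set_option autoImplicit false
set_option backward.isDefEq.respectTransparency false

open Matrix

namespace CfsgLib.KnownA.MinIndex

variable {F : Type*} [Field F] {ι : Type*} [Fintype ι] [DecidableEq ι]

theorem det_one_add_vmv (v φ : ι → F) : (1 + vecMulVec v φ).det = 1 + φ ⬝ᵥ v := by
  rw [vecMulVec_eq Unit]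
  exact det_one_add_replicateCol_mul_replicateRow v φ

/-- The transvection `x ↦ x + φ(x) v`, for `φ v = 0`. -/
noncomputable def T (v φ : ι → F) : SpecialLinearGroup ι F :=
  haveI := Classical.dec (φ ⬝ᵥ v = 0)
  if h : φ ⬝ᵥ v = 0 then ⟨1 + vecMulVec v φ, by rw [det_one_add_vmv, h, add_zero]⟩ else 1

theorem T_coe {v φ : ι → F} (h : φ ⬝ᵥ v = 0) : (T v φ : Matrix ι ι F) = 1 + vecMulVec v φ := by
  rw [T, dif_pos h]

@[simp] theorem T_zero_left (φ : ι → F) : T (0 : ι → F) φ = 1 := by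
  apply CfsgLib.Classical.sl_ext; rw [T_coe (dotProduct_zero φ)]; simp

@[simp] theorem T_zero_right (v : ι → F) : T v (0 : ι → F) = 1 := by
  apply CfsgLib.Classical.sl_ext; rw [T_coe (zero_dotProduct v)]; simp

theorem T_mul_left {v v' φ : ι → F} (h : φ ⬝ᵥ v = 0) (h' : φ ⬝ᵥ v' = 0) :
    T v φ * T v' φ = T (v + v') φ := by
  apply CfsgLib.Classical.sl_ext
  change (T v φ : Matrix ι ι F) * (T v' φ : Matrix ι ι F) = (T (v + v') φ : Matrix ι ι F)
  rw [T_coe h, T_coe h',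
    T_coe (by rw [dotProduct_add, h, h', add_zero]), add_mul, one_mul, mul_add, mul_one,
    vecMulVec_mul_vecMulVec, h', zero_smul, Matrix.add_vecMulVec]
  simp
  abel

theorem T_mul_right {v φ φ' : ι → F} (h : φ ⬝ᵥ v = 0) (h' : φ' ⬝ᵥ v = 0) :
    T v φ * T v φ' = T v (φ + φ') := by
  apply CfsgLib.Classical.sl_ext
  change (T v φ : Matrix ι ι F) * (T v φ' : Matrix ι ι F) = (T v (φ + φ') : Matrix ι ι F)
  rw [T_coe h, T_coe h',
    T_coe (by rw [add_dotProduct, h, h', add_zero]), add_mul, one_mul, mul_add, mul_one,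
    vecMulVec_mul_vecMulVec, h, zero_smul, Matrix.vecMulVec_add]
  simp
  abel

theorem T_inv {v φ : ι → F} (h : φ ⬝ᵥ v = 0) : (T v φ)⁻¹ = T (-v) φ :=
  inv_eq_of_mul_eq_one_right (by rw [T_mul_left h (by rw [dotProduct_neg, h, neg_zero]),
    add_neg_cancel, T_zero_left])

theorem T_smul {v φ : ι → F} (h : φ ⬝ᵥ v = 0) (c : F) : T (c • v) φ = T v (c • φ) := by
  apply CfsgLib.Classical.sl_ext
  rw [T_coe (by rw [dotProduct_smul, h, smul_zero]), T_coe (by rw [smul_dotProduct, h, smul_zero]),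
    Matrix.smul_vecMulVec, Matrix.vecMulVec_smul]

/-- Conjugating a transvection. -/
theorem T_conj (g : SpecialLinearGroup ι F) {v φ : ι → F} (h : φ ⬝ᵥ v = 0) :
    g * T v φ * g⁻¹ =
      T ((g : Matrix ι ι F) *ᵥ v) (φ ᵥ* ((g⁻¹ : SpecialLinearGroup ι F) : Matrix ι ι F)) := by
  have hi : ((g⁻¹ : SpecialLinearGroup ι F) : Matrix ι ι F) * (g : Matrix ι ι F) = 1 :=
    congrArg Subtype.val (inv_mul_cancel g)
  have hi' : (g : Matrix ι ι F) * ((g⁻¹ : SpecialLinearGroup ι F) : Matrix ι ι F) = 1 :=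
    congrArg Subtype.val (mul_inv_cancel g)
  have h' : (φ ᵥ* ((g⁻¹ : SpecialLinearGroup ι F) : Matrix ι ι F)) ⬝ᵥ ((g : Matrix ι ι F) *ᵥ v) = 0 := by
    rw [Matrix.dotProduct_mulVec, Matrix.vecMul_vecMul, hi, Matrix.vecMul_one, h]
  apply CfsgLib.Classical.sl_ext
  change (g : Matrix ι ι F) * (T v φ : Matrix ι ι F) *
      ((g⁻¹ : SpecialLinearGroup ι F) : Matrix ι ι F) = ((T ((g : Matrix ι ι F) *ᵥ v) (φ ᵥ* ((g⁻¹ : SpecialLinearGroup ι F) : Matrix ι ι F)) :
      SpecialLinearGroup ι F) : Matrix ι ι F)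
  rw [T_coe h', T_coe h, mul_add, add_mul,
    mul_one, hi', Matrix.mul_vecMulVec, Matrix.vecMulVec_mul]

theorem T_mulVec {v φ : ι → F} (h : φ ⬝ᵥ v = 0) (z : ι → F) :
    (T v φ : Matrix ι ι F) *ᵥ z = z + (φ ⬝ᵥ z) • v := by
  rw [T_coe h, Matrix.add_mulVec, Matrix.one_mulVec, Matrix.vecMulVec_mulVec, op_smul_eq_smul]

theorem vecMul_T {v φ : ι → F} (h : φ ⬝ᵥ v = 0) (z : ι → F) :
    z ᵥ* (T v φ : Matrix ι ι F) = z + (z ⬝ᵥ v) • φ := by
  rw [T_coe h, Matrix.vecMul_add, Matrix.vecMul_one, Matrix.vecMul_vecMulVec]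

theorem single_dot_single {i j : ι} (h : i ≠ j) (c d : F) :
    (Pi.single i c : ι → F) ⬝ᵥ Pi.single j d = 0 := by
  simp [Pi.single_eq_of_ne h.symm]

theorem transvection_eq_T {i j : ι} (h : i ≠ j) (c : F) :
    SpecialLinearGroup.transvection h c = T (Pi.single i c) (Pi.single j 1) := by
  apply CfsgLib.Classical.sl_ext
  rw [T_coe (single_dot_single h.symm _ _)]
  ext p r
  change Matrix.transvection i j c p r = _
  simp only [Matrix.transvection, Matrix.add_apply, Matrix.single_apply, vecMulVec_apply,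
    Pi.single_apply]
  by_cases hp : i = p <;> by_cases hr : j = r <;>
    simp [hp, hr, Ne.symm]

/-- If two vectors are independent some covector takes prescribed values. -/
theorem exists_dual {u v : ι → F} (hu : ∀ c : F, u ≠ c • v) (hv : v ≠ 0) (ρ : F) :
    ∃ r : ι → F, r ⬝ᵥ v = ρ ∧ r ⬝ᵥ u = 0 := by
  obtain ⟨l, hl⟩ := Function.ne_iff.1 hv
  rw [Pi.zero_apply] at hl
  obtain ⟨k, hk⟩ := Function.ne_iff.1 (hu (u l / v l))
  rw [Pi.smul_apply, smul_eq_mul] at hk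
  have hΔ : v k * u l - v l * u k ≠ 0 := fun h => hk (by field_simp; linear_combination (-1 : F) * h)
  refine ⟨(ρ / (v k * u l - v l * u k)) • (Pi.single k (u l) - Pi.single l (u k)), ?_, ?_⟩
  · rw [smul_dotProduct, sub_dotProduct, single_dotProduct, single_dotProduct, smul_eq_mul]
    rw [show u l * v k - u k * v l = v k * u l - v l * u k by ring, div_mul_cancel₀ _ hΔ]
  · rw [smul_dotProduct, sub_dotProduct, single_dotProduct, single_dotProduct, smul_eq_mul]
    rw [show u l * u k - u k * u l = 0 by ring, mul_zero]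

/-- Two independent covectors are exchanged by a transvection. -/
theorem exists_T_move {y z : ι → F} (hy : y ≠ 0) (hyz : ∀ c : F, z ≠ c • y) :
    ∃ w ψ : ι → F, ψ ⬝ᵥ w = 0 ∧ y + (y ⬝ᵥ w) • ψ = z := by
  have hu : ∀ c : F, z - y ≠ c • y := fun c h => hyz (c + 1) (by
    rw [add_smul, one_smul, ← h]; abel)
  obtain ⟨w, hw1, hw2⟩ := exists_dual hu hy 1
  refine ⟨w, z - y, by rw [dotProduct_comm]; exact hw2, ?_⟩
  rw [dotProduct_comm, hw1, one_smul]
  abel

/-- A property preserved by transvections holds for all non-zero covectors. -/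
theorem forall_of_T_move {P : (ι → F) → Prop} (hι : 2 ≤ Fintype.card ι)
    (hstep : ∀ y w ψ : ι → F, ψ ⬝ᵥ w = 0 → P y → P (y + (y ⬝ᵥ w) • ψ))
    {y : ι → F} (hy : y ≠ 0) (h : P y) {z : ι → F} (hz : z ≠ 0) : P z := by
  have one : ∀ {y z : ι → F}, y ≠ 0 → P y → (∀ c : F, z ≠ c • y) → P z := by
    intro y z hy h hyz
    obtain ⟨w, ψ, h1, h2⟩ := exists_T_move hy hyz
    rw [← h2]
    exact hstep y w ψ h1 h
  by_cases hyz : ∀ c : F, z ≠ c • y
  · exact one hy h hyz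
  push Not at hyz
  obtain ⟨c, rfl⟩ := hyz
  obtain ⟨i, hi⟩ := Function.ne_iff.1 hy
  rw [Pi.zero_apply] at hi
  obtain ⟨j, hj⟩ : ∃ j, j ≠ i := Fintype.exists_ne_of_one_lt_card (by omega) i
  have hw : ∀ d : F, Pi.single j 1 ≠ d • y := by
    intro d hd
    have h1 := congrFun hd i
    have h2 := congrFun hd j
    simp [Ne.symm hj, hi] at h1 h2
    simp [h1] at h2
  refine one (y := Pi.single j 1) (by simp) (one hy h hw) fun d hd => hz ?_
  have h1 := congrFun hd i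
  simp [Ne.symm hj, hi] at h1
  simp [h1]

/-- A common zero of two covectors. -/
theorem exists_ne_zero_orth (hι : 3 ≤ Fintype.card ι) (φ ψ : ι → F) :
    ∃ v : ι → F, v ≠ 0 ∧ φ ⬝ᵥ v = 0 ∧ ψ ⬝ᵥ v = 0 := by
  let f : (ι → F) →ₗ[F] F × F :=
    { toFun := fun v => (φ ⬝ᵥ v, ψ ⬝ᵥ v)
      map_add' := fun v w => by simp [dotProduct_add]
      map_smul' := fun c v => by simp [dotProduct_smul] }
  have : LinearMap.ker f ≠ ⊥ := LinearMap.ker_ne_bot_of_finrank_lt (by
    rw [Module.finrank_prod, Module.finrank_self, Module.finrank_fintype_fun_eq_card]; omega)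
  obtain ⟨v, hv, hv0⟩ := Submodule.exists_mem_ne_zero_of_ne_bot this
  have : (φ ⬝ᵥ v, ψ ⬝ᵥ v) = (0, 0) := LinearMap.mem_ker.1 hv
  exact ⟨v, hv0, (Prod.ext_iff.1 this).1, (Prod.ext_iff.1 this).2⟩

end CfsgLib.KnownA.MinIndex
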