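import Cfsg.Agent.Lib.KnownA.MinIndex.Orbits

/-!
# Small actions: every translation group is regular-or-trivial, or fixes hyperplanes
-/

set_option autoImplicit false
set_option linter.unusedSectionVars false

open Matrix Finset

namespace CfsgLib.KnownA.MinIndex

variable {F : Type*} [Field F] [Fintype F] {ι : Type*} [Fintype ι] [DecidableEq ι]
variable {Ω : Type*} [Fintype Ω] [DecidableEq Ω]
variable (π : SpecialLinearGroup ι F →* Equiv.Perm Ω) (a : ι)

/-- The count of lines. -/
abbrev lineCount (q m : ℕ) : ℕ := ∑ i ∈ Finset.range m, q ^ i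

theorem trichotomy (hι : 3 ≤ Fintype.card ι)
    (hΩ : Fintype.card Ω < Fintype.card F ^ (Fintype.card ι - 1) +
      lineCount (Fintype.card F) (Fintype.card ι - 1)) :
    (∀ ω x, π (U a x) ω = ω) ∨
    (∀ ω, (∀ x, π (U a x) ω = ω) ∨ ((∀ x, π (U a x) ω = ω → x = 0) ∧
      ∀ ν, (∀ x, π (U a x) ν = ν) ∨ ∃ x, π (U a x) ω = ν)) ∨
    (∀ ω, ∃ y : Rest a → F, y ≠ 0 ∧ ∀ x, π (U a x) ω = ω ↔ y ⬝ᵥ x = 0) := by
  classical
  set m := Fintype.card ι - 1 with hm
  set q := Fintype.card F with hq
  have hq2 : 2 ≤ q := Fintype.one_lt_card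
  have hcardR : Fintype.card (Rest a) = m := by
    rw [Fintype.card_subtype_compl, Fintype.card_subtype_eq]
  have hcardV : Fintype.card (Rest a → F) = q ^ m := by rw [Fintype.card_fun, hcardR]
  obtain ⟨χ, hχ⟩ : ∃ χ : AddChar F ℂ, χ 1 ≠ 1 := AddChar.exists_apply_ne_zero.2 one_ne_zero
  by_cases htriv : ∀ ω x, π (U a x) ω = ω
  · exact Or.inl htriv
  right
  let O : Finset (Finset Ω) := Finset.univ.image (orb π a)
  let annO : Finset Ω → Finset (Rest a → F) := fun o =>
    Finset.univ.filter fun y => ∀ ω ∈ o, y ∈ ann π a χ ω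
  have hannO : ∀ ω, annO (orb π a ω) = ann π a χ ω := by
    intro ω
    ext y
    simp only [annO, Finset.mem_filter, Finset.mem_univ, true_and]
    constructor
    · exact fun h => h ω (self_mem_orb π a ω)
    · intro h ν hν
      rw [mem_ann, stab_of_mem_orb π a hν]
      exact (mem_ann π a χ).1 h
  have hcardO : ∀ o ∈ O, ((annO o).erase 0).card + 1 = o.card := by
    intro o ho
    obtain ⟨ω, -, rfl⟩ := Finset.mem_image.1 ho
    rw [hannO, Finset.card_erase_add_one (zero_mem_ann π a χ ω), card_ann π a hχ]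
  have hΩsum : Fintype.card Ω = ∑ o ∈ O, o.card := by
    refine Eq.trans ?_ (Finset.card_biUnion (s := O) (t := id) ?_)
    · rw [← Finset.card_univ]
      congr 1
      ext ω
      simp only [Finset.mem_univ, Finset.mem_biUnion, id_eq, true_iff]
      exact ⟨_, Finset.mem_image_of_mem _ (Finset.mem_univ ω), self_mem_orb π a ω⟩
    · intro o ho o' ho' hne
      obtain ⟨ω, -, rfl⟩ := Finset.mem_image.1 ho
      obtain ⟨ν, -, rfl⟩ := Finset.mem_image.1 ho'
      change Disjoint (orb π a ω) (orb π a ν)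
      rw [Finset.disjoint_left]
      exact fun z hz hz' => hne ((orb_of_mem_orb π a hz).symm.trans (orb_of_mem_orb π a hz'))
  let k : (Rest a → F) → ℕ := fun y => (O.filter fun o => y ∈ annO o).card
  have hstep : ∀ y w ψ : Rest a → F, ψ ⬝ᵥ w = 0 → k (y + (y ⬝ᵥ w) • ψ) = k y := by
    intro y w ψ h
    refine Finset.card_bij (fun o _ => o.image (π (Lev a w ψ))) ?_ ?_ ?_
    · intro o ho
      rw [Finset.mem_filter] at ho ⊢
      obtain ⟨ω, -, rfl⟩ := Finset.mem_image.1 ho.1
      rw [← lev_orb π a ω h]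
      refine ⟨Finset.mem_image_of_mem _ (Finset.mem_univ _), ?_⟩
      rw [hannO, lev_ann π a ω h, ← hannO]
      exact ho.2
    · intro o _ o' _ e
      exact Finset.image_injective (π (Lev a w ψ)).injective e
    · intro o ho
      rw [Finset.mem_filter] at ho
      obtain ⟨ν, -, rfl⟩ := Finset.mem_image.1 ho.1
      obtain ⟨ω, rfl⟩ := (π (Lev a w ψ)).surjective ν
      refine ⟨orb π a ω, Finset.mem_filter.2
        ⟨Finset.mem_image_of_mem _ (Finset.mem_univ _), ?_⟩, (lev_orb π a ω h).symm⟩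
      rw [hannO, ← lev_ann π a ω h, ← hannO]
      exact ho.2
  have hconst : ∀ y z : Rest a → F, y ≠ 0 → z ≠ 0 → k z = k y := fun y z hy hz =>
    forall_of_T_move (P := fun v => k v = k y) (by rw [hcardR]; omega)
      (fun v w ψ h hv => (hstep v w ψ h).trans hv) hy rfl hz
  obtain ⟨i₀⟩ : Nonempty (Rest a) := Fintype.card_pos_iff.1 (by rw [hcardR]; omega)
  set y₀ : Rest a → F := Pi.single i₀ 1
  have hy₀ : y₀ ≠ 0 := by simp [y₀]
  have hdouble : ∑ o ∈ O, ((annO o).erase 0).card = k y₀ * (q ^ m - 1) := by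
    calc ∑ o ∈ O, ((annO o).erase 0).card
        = ∑ o ∈ O, ∑ y ∈ (Finset.univ : Finset (Rest a → F)).erase 0,
            (if y ∈ annO o then 1 else 0) := by
          refine Finset.sum_congr rfl fun o _ => ?_
          rw [← Finset.card_filter]
          congr 1
          ext y; simp [and_comm]
      _ = ∑ y ∈ (Finset.univ : Finset (Rest a → F)).erase 0, k y := by
          rw [Finset.sum_comm]
          exact Finset.sum_congr rfl fun y _ => (Finset.card_filter _ _).symm
      _ = _ := by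
          rw [Finset.sum_congr rfl fun y hy => hconst y₀ y hy₀ (Finset.ne_of_mem_erase hy),
            Finset.sum_const, Finset.card_erase_of_mem (Finset.mem_univ _), Finset.card_univ,
            hcardV, smul_eq_mul, mul_comm]
  have hcount : Fintype.card Ω = k y₀ * (q ^ m - 1) + O.card := by
    rw [hΩsum, ← hdouble, Finset.card_eq_sum_ones O, ← Finset.sum_add_distrib]
    exact Finset.sum_congr rfl fun o ho => (hcardO o ho).symm
  have hN : lineCount q m * (q - 1) = q ^ m - 1 := by
    have := Nat.geomSum_eq hq2 m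
    rw [lineCount, this, Nat.div_mul_cancel]
    simpa using Nat.sub_dvd_pow_sub_pow q 1 m
  have hNle : lineCount q m ≤ q ^ m - 1 := by
    rw [← hN]; exact Nat.le_mul_of_pos_right _ (by omega)
  have hfix : ∀ ω, ((annO (orb π a ω)).erase 0).card = 0 → ∀ x, π (U a x) ω = ω := by
    intro ω h x
    have h1 := hcardO _ (Finset.mem_image_of_mem _ (Finset.mem_univ ω))
    rw [h] at h1
    obtain ⟨z, hz⟩ := Finset.card_eq_one.1 h1.symm
    have e1 : π (U a x) ω = z := Finset.mem_singleton.1 (hz ▸ (mem_orb π a).2 ⟨x, rfl⟩)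
    have e2 : ω = z := Finset.mem_singleton.1 (hz ▸ self_mem_orb π a ω)
    exact e1.trans e2.symm
  have hk1 : k y₀ = 1 := by
    rcases Nat.lt_trichotomy (k y₀) 1 with h | h | h
    · exfalso
      apply htriv
      intro ω
      apply hfix
      have := Finset.sum_eq_zero_iff.1 (hdouble.trans (by simp [Nat.lt_one_iff.1 h]))
      exact this _ (Finset.mem_image_of_mem _ (Finset.mem_univ ω))
    · exact h
    · exfalso
      have hO : 0 < O.card := by
        rw [Finset.card_pos]
        have : ∃ ω : Ω, True := by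
          by_contra hne
          exact htriv fun ω => (hne ⟨ω, trivial⟩).elim
        obtain ⟨ω, -⟩ := this
        exact ⟨_, Finset.mem_image_of_mem _ (Finset.mem_univ ω)⟩
      have : 2 * (q ^ m - 1) ≤ k y₀ * (q ^ m - 1) := Nat.mul_le_mul_right _ h
      omega
  have huniq : ∀ y : Rest a → F, y ≠ 0 → ∀ ω ν, y ∈ ann π a χ ω → y ∈ ann π a χ ν →
      orb π a ν = orb π a ω := by
    intro y hy ω ν hω hν
    obtain ⟨o, ho⟩ := Finset.card_eq_one.1 ((hconst y₀ y hy₀ hy).trans hk1)
    have e : ∀ μ, y ∈ ann π a χ μ → orb π a μ = o := fun μ hμ => by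
      rw [← Finset.mem_singleton, ← ho]
      exact Finset.mem_filter.2 ⟨Finset.mem_image_of_mem _ (Finset.mem_univ _), by rwa [hannO]⟩
    rw [e ω hω, e ν hν]
  have hinv : ∀ ω (y : Rest a → F), y ≠ 0 → y ∈ ann π a χ ω → ∀ w ψ : Rest a → F, ψ ⬝ᵥ w = 0 →
      y ⬝ᵥ w = 0 → ∀ z ∈ ann π a χ ω, z + (z ⬝ᵥ w) • ψ ∈ ann π a χ ω := by
    intro ω y hy hyω w ψ h hyw z hz
    obtain ⟨ν, hν⟩ := (π (Lev a w ψ)).surjective ω
    rw [← hν] at hyω hz
    have h1 : y ∈ ann π a χ ν := by
      have := (lev_ann π a ν h y).1 hyω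
      rwa [hyw, zero_smul, add_zero] at this
    have h2 := (lev_ann π a ν h z).1 hz
    have he := huniq y hy ν ω h1 (hν ▸ hyω)
    rw [← hannO, he, hannO]
    exact h2
  have hline : ∀ ω (y z : Rest a → F), y ≠ 0 → (∀ c : F, z ≠ c • y) → y ∈ ann π a χ ω →
      z ∈ ann π a χ ω → ∀ c : F, c • y ∈ ann π a χ ω := by
    intro ω y z hy hzy hyω hzω c
    have hz : z ≠ 0 := fun h => hzy 0 (by rw [h, zero_smul])
    have hyz : ∀ d : F, y ≠ d • z := by
      intro d hd
      by_cases hd0 : d = 0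
      · exact hy (by rw [hd, hd0, zero_smul])
      · exact hzy d⁻¹ (by rw [hd, smul_smul, inv_mul_cancel₀ hd0, one_smul])
    obtain ⟨w, hw1, hw2⟩ := exists_dual hyz hz c
    rw [dotProduct_comm] at hw1 hw2
    have := hinv ω y hy hyω w y hw2 hw2 z hzω
    rw [hw1] at this
    have h2 := ann_sub π a χ this hzω
    rwa [add_sub_cancel_left] at h2
  have hfull : ∀ ω (y z : Rest a → F), y ≠ 0 → (∀ c : F, z ≠ c • y) → y ∈ ann π a χ ω →
      z ∈ ann π a χ ω → ∀ u, u ∈ ann π a χ ω := by
    intro ω y z hy hzy hyω hzω u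
    have hz : z ≠ 0 := fun h => hzy 0 (by rw [h, zero_smul])
    have hyz : ∀ d : F, y ≠ d • z := by
      intro d hd
      by_cases hd0 : d = 0
      · exact hy (by rw [hd, hd0, zero_smul])
      · exact hzy d⁻¹ (by rw [hd, smul_smul, inv_mul_cancel₀ hd0, one_smul])
    obtain ⟨w, hw1, hw2⟩ := exists_dual hyz hz 1
    rw [dotProduct_comm] at hw1 hw2
    have hψ : (u - (u ⬝ᵥ w) • z) ⬝ᵥ w = 0 := by
      rw [sub_dotProduct, smul_dotProduct, hw1, smul_eq_mul, mul_one, sub_self]
    have := hinv ω y hy hyω w _ hψ hw2 z hzω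
    rw [hw1, one_smul] at this
    have h2 := ann_sub π a χ this hzω
    rw [add_sub_cancel_left] at h2
    have h3 := hline ω z y hz hyz hzω hyω (-(u ⬝ᵥ w))
    have h4 := ann_sub π a χ h2 h3
    rwa [neg_smul, sub_neg_eq_add, sub_add_cancel] at h4
  by_cases hreg : ∃ ω, ∀ u, u ∈ ann π a χ ω
  · left
    obtain ⟨ω₀, hω₀⟩ := hreg
    have others : ∀ ν, orb π a ν ≠ orb π a ω₀ → ∀ x, π (U a x) ν = ν := by
      intro ν hne
      apply hfix
      rw [Finset.card_eq_zero, Finset.eq_empty_iff_forall_notMem]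
      intro y hy
      rw [Finset.mem_erase, hannO] at hy
      exact hne (huniq y hy.1 ω₀ ν (hω₀ y) hy.2)
    have hfree : ∀ x, π (U a x) ω₀ = ω₀ → x = 0 := by
      intro x hx
      by_contra hne
      obtain ⟨u, hu⟩ := exists_chr_ne_one a hχ hne
      rw [dotProduct_comm] at hu
      exact hu ((mem_ann π a χ).1 (hω₀ u) x hx)
    intro ω
    by_cases hω : orb π a ω = orb π a ω₀
    · right
      refine ⟨fun x hx => hfree x ?_, fun ν => ?_⟩
      · have : x ∈ stab π a ω₀ := by
          rw [← stab_of_mem_orb π a (hω ▸ self_mem_orb π a ω)]; exact hx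
        exact this
      · by_cases hν : orb π a ν = orb π a ω₀
        · exact Or.inr ((mem_orb π a).1 (hω.symm ▸ hν ▸ self_mem_orb π a ν))
        · exact Or.inl (others ν hν)
    · exact Or.inl (others ω hω)
  right
  push Not at hreg
  have hle : ∀ o ∈ O, ((annO o).erase 0).card ≤ q - 1 ∧
      (((annO o).erase 0).card = q - 1 → ∃ y : Rest a → F, y ≠ 0 ∧ ∀ c : F, c • y ∈ annO o) := by
    intro o ho
    obtain ⟨ω, -, rfl⟩ := Finset.mem_image.1 ho
    rw [hannO]
    by_cases hne : ((ann π a χ ω).erase 0).Nonempty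
    · obtain ⟨y, hy⟩ := hne
      rw [Finset.mem_erase] at hy
      have hsub : (ann π a χ ω).erase 0 ⊆
          ((Finset.univ : Finset F).erase 0).image (fun c => c • y) := by
        intro z hz
        rw [Finset.mem_erase] at hz
        by_cases hzy : ∀ c : F, z ≠ c • y
        · obtain ⟨u, hu⟩ := hreg ω
          exact absurd (hfull ω y z hy.1 hzy hy.2 hz.2 u) hu
        · push Not at hzy
          obtain ⟨c, rfl⟩ := hzy
          exact Finset.mem_image_of_mem _ (Finset.mem_erase.2
            ⟨fun h => hz.1 (by rw [h, zero_smul]), Finset.mem_univ _⟩)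
      have hc : (((Finset.univ : Finset F).erase 0).image (fun c => c • y)).card = q - 1 := by
        rw [Finset.card_image_of_injective _ (smul_left_injective F hy.1),
          Finset.card_erase_of_mem (Finset.mem_univ _), Finset.card_univ]
      refine ⟨hc ▸ Finset.card_le_card hsub, fun h => ⟨y, hy.1, fun c => ?_⟩⟩
      by_cases hc0 : c = 0
      · rw [hc0, zero_smul]; exact zero_mem_ann π a χ ω
      · exact Finset.mem_of_mem_erase ((Finset.eq_of_subset_of_card_le hsub (by rw [hc, h])).symm ▸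
          Finset.mem_image_of_mem _ (Finset.mem_erase.2 ⟨hc0, Finset.mem_univ _⟩))
    · rw [Finset.not_nonempty_iff_eq_empty] at hne
      rw [hne, Finset.card_empty]
      exact ⟨Nat.zero_le _, fun h => absurd h (by omega)⟩
  have hall : ∀ o ∈ O, ((annO o).erase 0).card = q - 1 := by
    by_contra hne
    push Not at hne
    obtain ⟨o, ho, hlt⟩ := hne
    have h1 : ∑ o ∈ O, ((annO o).erase 0).card < ∑ o ∈ O, (q - 1) :=
      Finset.sum_lt_sum (fun o ho => (hle o ho).1) ⟨o, ho, lt_of_le_of_ne (hle o ho).1 hlt⟩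
    rw [hdouble, hk1, one_mul, Finset.sum_const, smul_eq_mul, ← hN] at h1
    have h2 : lineCount q m < O.card := Nat.lt_of_mul_lt_mul_right h1
    rw [hcount, hk1, one_mul] at hΩ
    omega
  intro ω
  have ho : orb π a ω ∈ O := Finset.mem_image_of_mem _ (Finset.mem_univ ω)
  obtain ⟨y, hy, hyl⟩ := (hle _ ho).2 (hall _ ho)
  refine ⟨y, hy, stab_of_line π a hχ hy (fun c => hannO ω ▸ hyl c) ?_⟩
  rw [← hcardO _ ho, hall _ ho]
  omega

end CfsgLib.KnownA.MinIndex
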